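import Cfsg.Agent.J4Classes.A.Main
import Cfsg.Agent.J4Classes.B.Eleven
import Cfsg.Agent.S5572

/-!
# Counting Sylow subgroups inside a subgroup of a group of the order of `J₄`
-/

set_option autoImplicit false

open Subgroup

namespace Cfsg.Agent.J4Max

open J4Type.LargePrime (ordJ)

/-- The large primes with the indices of their subgroups in the normalisers. -/
def largeList : List (ℕ × ℕ) := [(23, 22), (29, 28), (31, 10), (37, 12), (43, 14)]

/-- The facts on normalisers of Sylow subgroups. -/
structure Env (G : Type*) [Group G] : Prop where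
  facts : J4Type.LargePrime.Facts G
  large : ∀ a ∈ largeList, ∀ P : Subgroup G, Nat.card P = a.1 →
    centralizer (P : Set G) = P ∧ Nat.card (normalizer (P : Set G)) = a.1 * a.2
  five : ∀ P : Subgroup G, Nat.card P = 5 → Nat.card (normalizer (P : Set G)) = 26880
  seven : ∀ P : Subgroup G, Nat.card P = 7 → Nat.card (normalizer (P : Set G)) = 2520
  eleven : ∀ U : Subgroup G, Nat.card U = 1331 → Nat.card (normalizer (U : Set G)) = 319440
  ti : ∀ U U' : Subgroup G, Nat.card U = 1331 → Nat.card U' = 1331 →
    ∀ u ∈ U, u ∈ U' → u ≠ 1 → U = U'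

variable {G : Type*} [Group G]

/-- The primes of the list. -/
theorem large_spec : ∀ a ∈ largeList, a.1.Prime ∧ a.1 ∣ ordJ ∧ ¬ a.1 ^ 2 ∣ ordJ ∧ ¬ a.1 ∣ 2520 := by
  simp only [largeList, List.forall_mem_cons, List.not_mem_nil]
  norm_num [ordJ]

/-- A subgroup with the full power of a prime in the order is a Sylow subgroup. -/
theorem exists_sylow_eq [Finite G] {p k : ℕ} [Fact p.Prime] {P : Subgroup G} (hP : Nat.card P = p ^ k)
    (h : ¬ p ^ (k + 1) ∣ Nat.card G) : ∃ S : Sylow p G, (S : Subgroup G) = P := by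
  have hp : p.Prime := Fact.out
  refine ⟨Sylow.ofCard P ?_, rfl⟩
  have h0 : Nat.card G ≠ 0 := Nat.card_pos.ne'
  have h1 := (hp.pow_dvd_iff_le_factorization h0).1 (hP ▸ card_subgroup_dvd_card P)
  have h2 := mt (hp.pow_dvd_iff_le_factorization h0).2 h
  rw [hP, show (Nat.card G).factorization p = k by omega]

/-- The order of the intersection of a subgroup with the normaliser of a Sylow subgroup divides that of
both, and the quotient of the order of the subgroup by it is congruent to one. -/
theorem count [Finite G] {p k n : ℕ} [Fact p.Prime] {M P : Subgroup G} (hPM : P ≤ M)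
    (hP : Nat.card P = p ^ k) (hno : ¬ p ^ (k + 1) ∣ Nat.card G)
    (hN : Nat.card (normalizer (P : Set G)) = n) :
    p ^ k ∣ Nat.card (M ⊓ normalizer (P : Set G) : Subgroup G) ∧
      Nat.card (M ⊓ normalizer (P : Set G) : Subgroup G) ∣ n ∧
      Nat.card (M ⊓ normalizer (P : Set G) : Subgroup G) ∣ Nat.card M ∧
      (Nat.card M / Nat.card (M ⊓ normalizer (P : Set G) : Subgroup G)) % p = 1 := by
  refine ⟨hP ▸ card_dvd_of_le (le_inf hPM le_normalizer), hN ▸ card_dvd_of_le inf_le_right,
    card_dvd_of_le inf_le_left, ?_⟩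
  obtain ⟨S, hS⟩ := exists_sylow_eq (G := M) (P := P.subgroupOf M)
    (by rw [Nat.card_congr (subgroupOfEquivOfLe hPM).toEquiv, hP])
    (fun h => hno (h.trans (card_subgroup_dvd_card M)))
  have h1 := card_sylow_modEq_one p M
  rw [S.card_eq_index_normalizer] at h1
  have he : Nat.card (normalizer ((S : Subgroup M) : Set M)) =
      Nat.card (M ⊓ normalizer (P : Set G) : Subgroup G) := by
    rw [hS, ← subgroupOf_normalizer_eq hPM, inf_comm, ← subgroupOf_map_subtype,
      card_map_of_injective (subtype_injective _)]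
  have h2 := (normalizer ((S : Subgroup M) : Set M)).card_mul_index
  rw [← he, ← h2, Nat.mul_div_cancel_left _ Nat.card_pos]
  have hp : 1 < p := (Fact.out : p.Prime).one_lt
  unfold Nat.ModEq at h1
  rwa [Nat.mod_eq_of_lt hp] at h1

/-- A subgroup of order divisible by a prime has a subgroup of that order. -/
theorem exists_le [Finite G] {p : ℕ} [Fact p.Prime] {M : Subgroup G} (h : p ∣ Nat.card M) :
    ∃ P ≤ M, Nat.card P = p := by
  obtain ⟨x, hx⟩ := exists_prime_orderOf_dvd_card' (G := M) p h
  exact ⟨zpowers (x : G), zpowers_le.2 x.2, by rw [Nat.card_zpowers, Subgroup.orderOf_coe, hx]⟩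

/-- No self-centralised subgroup of large prime order is central in its normaliser inside a subgroup of
order divisible by seven. -/
theorem Env.not_central [Finite G] (E : Env G) {p e : ℕ} (ha : (p, e) ∈ largeList) {M P : Subgroup G}
    (hPM : P ≤ M) (hP : Nat.card P = p) (h7 : 7 ∣ Nat.card M) :
    Nat.card (M ⊓ normalizer (P : Set G) : Subgroup G) ≠ p := by
  intro hc
  obtain ⟨hp, -, hp2, hp7⟩ := large_spec _ ha
  have : Fact p.Prime := ⟨hp⟩
  have : Fact (Nat.Prime 7) := ⟨by norm_num⟩
  have hG : Nat.card G = ordJ := E.facts.card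
  have hPc : P = M ⊓ normalizer (P : Set G) :=
    eq_of_le_of_card_ge (le_inf hPM le_normalizer) (by rw [hc, hP])
  have hP' : Nat.card (P.subgroupOf M) = p ^ 1 := by
    rw [Nat.card_congr (subgroupOfEquivOfLe hPM).toEquiv, hP, pow_one]
  obtain ⟨S, hS⟩ := exists_sylow_eq (G := M) hP' fun h => hp2 (hG ▸ h.trans (card_subgroup_dvd_card M))
  have hcyc : IsCyclic P := isCyclic_of_prime_card hP
  have hle : normalizer ((S : Subgroup M) : Set M) ≤ centralizer ((S : Subgroup M) : Set M) := by
    intro x hx
    rw [hS, ← subgroupOf_normalizer_eq hPM, mem_subgroupOf] at hx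
    have hxP : (x : G) ∈ P := hPc ▸ mem_inf.2 ⟨x.2, hx⟩
    refine mem_centralizer_iff.2 fun s hs => ?_
    rw [hS] at hs
    have hsP : (s : G) ∈ P := mem_subgroupOf.1 hs
    have hcm : IsMulCommutative P := inferInstance
    have h := congrArg (fun a : P => (a : G)) (hcm.is_comm.comm (⟨s, hsP⟩ : P) ⟨x, hxP⟩)
    exact Subtype.ext (by simpa only [Subgroup.coe_mul] using h)
  have hK := MonoidHom.ker_transferSylow_isComplement' S hle
  set K := (MonoidHom.transferSylow S hle).ker
  have hcard := hK.card_mul_card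
  rw [hS, hP', pow_one] at hcard
  have h7K : 7 ∣ Nat.card K := by
    refine (Nat.Coprime.dvd_mul_right ?_).1 (hcard ▸ h7)
    refine ((Nat.coprime_primes (by norm_num) hp).2 ?_)
    rintro rfl
    exact hp7 (by norm_num)
  obtain ⟨Q⟩ := (inferInstance : Nonempty (Sylow 7 K))
  have hQ : Nat.card Q = 7 := by
    obtain ⟨Q₀, -, hQ₀⟩ := exists_le (M := (⊤ : Subgroup K)) (p := 7) (by rwa [card_top])
    obtain ⟨S', hS'⟩ := exists_sylow_eq (P := Q₀) (k := 1) (hQ₀.trans (pow_one 7).symm) fun h => by
      have h' := (h.trans (card_subgroup_dvd_card K)).trans (card_subgroup_dvd_card M)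
      rw [hG] at h'
      norm_num [ordJ] at h'
    rw [Q.card_eq_multiplicity, ← S'.card_eq_multiplicity, hS', hQ₀]
  have htop := Sylow.normalizer_sup_eq_top Q
  set R := normalizer (((Q : Subgroup K).map K.subtype : Subgroup M) : Set M)
  have hpR : p ∣ Nat.card R := by
    have hmap : R.map (QuotientGroup.mk' K) = ⊤ := by
      rw [← top_le_iff, ← map_top_of_surjective _ (QuotientGroup.mk'_surjective K), ← htop, Subgroup.map_sup,
        QuotientGroup.map_mk'_self, sup_bot_eq]
    have h := R.card_map_dvd (QuotientGroup.mk' K)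
    rw [hmap, card_top, ← K.index_eq_card, hK.symm.index_eq_card, hS, hP', pow_one] at h
    exact h
  have hle' : R.map M.subtype ≤
      normalizer ((((Q : Subgroup K).map K.subtype).map M.subtype : Subgroup G) : Set G) :=
    le_normalizer_map _
  have h' := (card_map_of_injective (K := R) M.subtype_injective) ▸ card_dvd_of_le hle'
  rw [E.seven _ (by rw [card_map_of_injective M.subtype_injective, card_map_of_injective K.subtype_injective,
    hQ])] at h'
  exact hp7 (hpR.trans h')

end Cfsg.Agent.J4Max
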