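import Cfsg.Agent.J4Max.SeatA
import Cfsg.Agent.S5567
import Cfsg.Agent.S5574

/-!
# The four large local subgroups are maximal, granted the four small ones
-/

set_option autoImplicit false

open Cfsg Subgroup

namespace Cfsg.Agent.J4Max

open J4Type.LargePrime (ordJ prodDivisors prodPow mem_prodDivisors)

variable {G : Type*} [Group G] [Finite G]

/-- The four small local subgroups are maximal. -/
def Small (G : Type*) [Group G] : Prop :=
  ∀ P : Subgroup G, Nat.card P ∈ [29, 37, 43, 1331] → IsCoatom (normalizer (P : Set G))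

/-- An overgroup of a large subgroup of order divisible by seven: its index above the subgroup is a divisor
with all congruences. -/
theorem over_big (E : Env G) (hS : Small G) {N M : Subgroup G} {n : ℕ} (hN : Nat.card N = n)
    (hlt : N < M) (hM : M ≠ ⊤) (hn : 319440 < n) (h7 : 7 ∣ n) (l : List (ℕ × ℕ))
    (hl : ∀ a ∈ l, a.1.Prime) (hprod : n * prodPow l = ordJ) :
    ∃ d ∈ prodDivisors l, Nat.card M = n * d ∧ d ≠ 1 ∧ n * d ≠ ordJ ∧ okBig (Nat.card M) = true := by
  have hG := E.facts.card
  obtain ⟨d, hd⟩ := hN ▸ card_dvd_of_le hlt.le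
  have hd1 : d ≠ 1 := fun h => hlt.ne (eq_of_le_of_card_ge hlt.le (by rw [hd, hN, h, mul_one]))
  have hdtop : n * d ≠ ordJ := fun h => hM (eq_top_of_card_eq M (by rw [hd, hG, h]))
  have hdd : d ∣ prodPow l := by
    refine Nat.dvd_of_mul_dvd_mul_left (show 0 < n by omega) ?_
    rw [hprod, ← hG, ← hd]
    exact card_subgroup_dvd_card M
  refine ⟨d, mem_prodDivisors l hl d hdd, hd, hd1, hdtop, E.ok_big (hd ▸ h7.mul_right d) fun P hP hle => ?_⟩
  have hc := hS P hP
  have hle' : Nat.card (normalizer (P : Set G)) ≤ 319440 := by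
    have := hle
    simp only [List.mem_cons, List.not_mem_nil, or_false] at hP
    rcases hP with h | h | h | h
    · rw [(E.large (29, 28) (by simp [largeList]) P h).2]; norm_num
    · rw [(E.large (37, 12) (by simp [largeList]) P h).2]; norm_num
    · rw [(E.large (43, 14) (by simp [largeList]) P h).2]; norm_num
    · rw [E.eleven P h]
  rcases hle.lt_or_eq with h | h
  · exact hM (hc.2 M h)
  · have h1 := card_le_of_le hlt.le
    rw [← h, hN] at h1
    omega

omit [Finite G] in
/-- A proper subgroup is not all. -/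
theorem ne_top_of (E : Env G) {N : Subgroup G} {n : ℕ} (hN : Nat.card N = n) (h : n ≠ ordJ) : N ≠ ⊤ :=
  fun e => h (by rw [← hN, e, card_top]; exact E.facts.card)

variable [IsSimpleGroup G]

/-- The centraliser of `z`. -/
theorem max_H (E : Env G) (hS : Small G) (hG : ¬ IsMulCommutative G) {z : G} (hJ : IsOfJankoFourTypeAt z) :
    IsCoatom (centralizer ({z} : Set G)) := by
  obtain ⟨P, hP⟩ := id hJ
  have hN : Nat.card (centralizer ({z} : Set G)) = 21799895040 := by
    rw [J4Type.card_centralizer_z hP]; norm_num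
  refine ⟨ne_top_of E hN (by norm_num [ordJ]), fun M hlt => ?_⟩
  by_contra hM
  obtain ⟨d, hd, hcard, hd1, hdt, hok⟩ := over_big E hS hN hlt hM (by norm_num) (by norm_num)
    [(11, 2), (23, 1), (29, 1), (31, 1), (37, 1), (43, 1)] (by norm_num) (by norm_num [prodPow, ordJ])
  have : Fact (Nat.Prime 3) := ⟨Nat.prime_three⟩
  obtain ⟨R, hR⟩ := Sylow.exists_subgroup_card_pow_prime 3 (n := 3)
    (show 3 ^ 3 ∣ Nat.card (centralizer ({z} : Set G)) by rw [hN]; norm_num)
  set R' := R.map (centralizer ({z} : Set G)).subtype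
  have hR' : Nat.card R' = 3 ^ 3 := by rw [card_map_of_injective (subtype_injective _), hR]
  have hno : ¬ 3 ^ (3 + 1) ∣ Nat.card G := by rw [E.facts.card]; norm_num [ordJ]
  obtain ⟨S, hSR⟩ := exists_sylow_eq hR' hno
  obtain ⟨-, -, -, hle, hc⟩ := Cfsg.Agent.S5565.result hG z hJ S (hSR ▸ map_subtype_le R)
  rw [hSR] at hle hc
  have h3 := ok_full hR' hno hc (hle.trans hlt.le)
  have h := List.all_eq_true.1 big_H d hd
  rw [hcard] at hok h3
  simp [hd1, hdt, hok, h3] at h

/-- The normaliser of a group of order `2 ^ 11`. -/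
theorem max_V (E : Env G) (hS : Small G) (hG : ¬ IsMulCommutative G) (hJ : IsOfJankoFourType G)
    {V : Subgroup G} (hV : IsElementaryAbelian 2 V) (hcard : Nat.card V = 2 ^ 11) :
    IsCoatom (normalizer (V : Set G)) := by
  have hN : Nat.card (normalizer (V : Set G)) = 2 ^ 11 * 244823040 := by
    obtain ⟨z, P, hP⟩ := hJ
    obtain ⟨B, S⟩ := J4Type.V11.exists_sys hG hP
    obtain ⟨F, hF⟩ := J4Type.V11.Frame.exists_good S
    obtain ⟨g, rfl⟩ := F.exists_conj_grp hV hcard
    rw [F.normalizer_conj g, card_map_of_injective (J4Type.V11.cj_inj g), F.card_nrm_eq hF]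
  refine ⟨ne_top_of E hN (by norm_num [ordJ]), fun M hlt => ?_⟩
  by_contra hM
  obtain ⟨d, hd, hcard, hd1, hdt, hok⟩ := over_big E hS hN hlt hM (by norm_num) (by norm_num)
    [(11, 2), (29, 1), (31, 1), (37, 1), (43, 1)] (by norm_num) (by norm_num [prodPow, ordJ])
  have h := List.all_eq_true.1 big_V d hd
  rw [hcard] at hok
  simp only [Nat.reducePow, Nat.reduceMul] at hok hdt h
  simp [hd1, hdt, hok] at h

/-- The normaliser of a self-centralising group of order `2 ^ 10`. -/
theorem max_A (E : Env G) (hS : Small G) (hG : ¬ IsMulCommutative G) (hJ : IsOfJankoFourType G)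
    {A : Subgroup G} (hA : IsElementaryAbelian 2 A) (hcA : Nat.card A = 2 ^ 10)
    (hCA : centralizer (A : Set G) = A) : IsCoatom (normalizer (A : Set G)) := by
  obtain ⟨⟨B, hBN, hBA, hsup, ⟨eB⟩⟩, hirr⟩ := (Cfsg.Agent.S5570.result hG hJ).2.2 A hA hcA hCA
  have hN : Nat.card (normalizer (A : Set G)) = 10239344640 := by
    obtain ⟨z, P, hP⟩ := hJ
    obtain ⟨B, S⟩ := J4Type.V11.exists_sys hG hP
    obtain ⟨T⟩ := TenLocal.exists_sect S
    have hcl : T.ClassLe := fun A h1 h2 h3 h4 => TenLocal.conj_std_of_le T h1 h2 h3 h4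
    obtain ⟨g, hg⟩ := TenLocal.conj_std T hA hcA hCA.le
    have h := congrArg (fun K : Subgroup G => Nat.card (normalizer (K : Set G))) (TenLocal.map_cj_inv hg)
    rw [h]
    exact (J4Type.LargePrime.card_normalizer_conj g⁻¹ T.std).trans ((T.card_norm hcl).trans (by norm_num))
  refine ⟨ne_top_of E hN (by norm_num [ordJ]), fun M hlt => ?_⟩
  by_contra hM
  obtain ⟨d, hd, hcard, hd1, hdt, hok⟩ := over_big E hS hN hlt hM (by norm_num) (by norm_num)
    [(2, 1), (3, 1), (11, 3), (23, 1), (29, 1), (37, 1), (43, 1)] (by norm_num) (by norm_num [prodPow, ordJ])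
  have h := List.all_eq_true.1 big_A d hd
  rw [hcard] at hok
  simp [hd1, hdt, hok] at h
  rcases h with (h | h) | h
  · -- index two: the subgroup is normalised
    subst h
    set N := normalizer (A : Set G) with hNdef
    have hidx : (N.subgroupOf M).index = 2 := by
      have h := relIndex_mul (hlt.le : N ≤ M)
      show N.relIndex M = 2
      rw [hN, hcard] at h
      omega
    have hnorm := Subgroup.normal_of_index_eq_two hidx
    have hMN : M ≤ normalizer (N : Set G) := (normal_subgroupOf_iff_le_normalizer hlt.le).1 hnorm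
    refine hlt.not_ge fun g hg => ?_
    set A' := A.map (MulAut.conj g).toMonoidHom with hA'
    have hNN : N.map (MulAut.conj g).toMonoidHom = N := by
      ext x
      rw [mem_map_equiv, MulAut.conj_symm_apply]
      have := mem_normalizer_iff.1 (hMN (M.inv_mem hg)) x
      simpa using this.symm
    have hA'N : N = normalizer (A' : Set G) := by
      rw [← hNN, hA', hNdef]; exact map_equiv_normalizer_eq A (MulAut.conj g)
    have hA'le : A' ≤ N := hA'N ▸ le_normalizer
    rcases hirr (A' ⊓ A) inf_le_right (fun x hx => by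
        refine mem_normalizer_iff.2 fun a => ?_
        have h1 := mem_normalizer_iff.1 hx a
        have h2 := mem_normalizer_iff.1 (hA'N ▸ hx) a
        simp only [mem_inf]
        exact and_congr h2 h1) with h | h
    · exfalso
      have hsub : A' ≤ A := by
        rw [← hCA]
        intro a' ha'
        refine mem_centralizer_iff.2 fun a ha => ?_
        have hc : a * a' * a⁻¹ * a'⁻¹ ∈ A' ⊓ A := by
          refine ⟨mul_mem ((mem_normalizer_iff.1 (hA'N ▸ le_normalizer (H := A) ha) a').1 ha') (A'.inv_mem ha'), ?_⟩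
          rw [show a * a' * a⁻¹ * a'⁻¹ = a * (a' * a⁻¹ * a'⁻¹) by group]
          exact mul_mem ha ((mem_normalizer_iff.1 (hA'le ha') _).1 (A.inv_mem ha))
        rw [h, mem_bot] at hc
        exact mul_inv_eq_iff_eq_mul.1 (mul_inv_eq_one.1 hc)
      rw [inf_eq_left.2 hsub] at h
      have h1 : Nat.card A' = 2 ^ 10 := by rw [hA', card_map_of_injective (MulAut.conj g).injective, hcA]
      rw [h, card_bot] at h1
      norm_num at h1
    · have hAA : A' = A := by
        have hle : A ≤ A' := h ▸ inf_le_left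
        exact (eq_of_le_of_card_ge hle (by rw [hA', card_map_of_injective (MulAut.conj g).injective])).symm
      refine mem_normalizer_iff.2 fun x => ?_
      constructor
      · intro hx
        exact hAA.le ⟨x, hx, rfl⟩
      · intro hx
        obtain ⟨y, hy, e⟩ := hAA.ge hx
        have : y = x := by simpa using e
        exact this ▸ hy
  · subst h
    exact E.seat_A hG hJ hA hcA hCA hlt.le (hcard.trans (by norm_num))
  · -- index two in the group
    have hidx : M.index = 2 := by
      have h2 := M.card_mul_index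
      rw [E.facts.card, hcard, ← h, mul_comm 2] at h2
      exact Nat.eq_of_mul_eq_mul_left (by omega) h2
    rcases (Subgroup.normal_of_index_eq_two hidx).eq_bot_or_eq_top with e | e
    · rw [e, card_bot] at hcard
      omega
    · exact hM e

/-- The normaliser of the special group of order `2 ^ 15`. -/
theorem max_L (E : Env G) (hS : Small G) (hG : ¬ IsMulCommutative G) (hJ : IsOfJankoFourType G) :
    ∃ L : Subgroup G, IsSpecial 2 ↥L ∧ Nat.card ↥L = 2 ^ 15 ∧ Nat.card ↥(Subgroup.center ↥L) = 8 ∧
      IsCoatom (normalizer (L : Set G)) := by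
  obtain ⟨L, h1, h2, h3, ⟨e⟩, -, -, -, ⟨Q5, hQ5⟩, ⟨Q7, hQ7⟩⟩ := Cfsg.Agent.S5574.result hG hJ
  refine ⟨L, h1, h2, h3, ?_⟩
  have hN : Nat.card (normalizer (L : Set G)) = 660602880 := by
    rw [← (L.subgroupOf (normalizer (L : Set G))).card_mul_index, index_eq_card, Nat.card_congr e.toEquiv,
      Nat.card_congr (subgroupOfEquivOfLe le_normalizer).toEquiv, h2, Nat.card_prod, card_perm5,
      J4Type.Trio.card_sl_three]
    norm_num
  refine ⟨ne_top_of E hN (by norm_num [ordJ]), fun M hlt => ?_⟩
  by_contra hM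
  obtain ⟨d, hd, hcard, hd1, hdt, hok⟩ := over_big E hS hN hlt hM (by norm_num) (by norm_num)
    [(3, 1), (11, 3), (23, 1), (29, 1), (31, 1), (37, 1), (43, 1)] (by norm_num) (by norm_num [prodPow, ordJ])
  have : Fact (Nat.Prime 5) := ⟨by norm_num⟩
  have : Fact (Nat.Prime 7) := ⟨by norm_num⟩
  have h05 : ¬ 5 ^ (1 + 1) ∣ Nat.card G := by rw [E.facts.card]; norm_num [ordJ]
  have h07 : ¬ 7 ^ (1 + 1) ∣ Nat.card G := by rw [E.facts.card]; norm_num [ordJ]
  have h5c : Nat.card (Q5 : Subgroup G) = 5 := by
    rw [Q5.card_eq_multiplicity, E.facts.card, show ordJ.factorization 5 = 1 by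
      have h1 := ((show Nat.Prime 5 by norm_num).pow_dvd_iff_le_factorization (show ordJ ≠ 0 by norm_num [ordJ]) (k := 1)).1 (by norm_num [ordJ])
      have h2 := mt ((show Nat.Prime 5 by norm_num).pow_dvd_iff_le_factorization (show ordJ ≠ 0 by norm_num [ordJ]) (k := 2)).2 (by norm_num [ordJ])
      omega, pow_one]
  have h7c : Nat.card (Q7 : Subgroup G) = 7 := by
    rw [Q7.card_eq_multiplicity, E.facts.card, show ordJ.factorization 7 = 1 by
      have h1 := ((show Nat.Prime 7 by norm_num).pow_dvd_iff_le_factorization (show ordJ ≠ 0 by norm_num [ordJ]) (k := 1)).1 (by norm_num [ordJ])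
      have h2 := mt ((show Nat.Prime 7 by norm_num).pow_dvd_iff_le_factorization (show ordJ ≠ 0 by norm_num [ordJ]) (k := 2)).2 (by norm_num [ordJ])
      omega, pow_one]
  have h5 := ok_full (h5c.trans (pow_one 5).symm) h05 (E.five _ h5c) (hQ5.trans hlt.le)
  have h7 := ok_full (h7c.trans (pow_one 7).symm) h07 (E.seven _ h7c) (hQ7.trans hlt.le)
  have h := List.all_eq_true.1 big_L d hd
  rw [hcard] at hok h5 h7
  simp only [Nat.reducePow, Nat.reduceMul] at hok hdt h h5 h7
  simp [hd1, hdt, hok, h5, h7] at h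

end Cfsg.Agent.J4Max
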