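import Cfsg.Agent.J4Max.Env
import Cfsg.Agent.S5565

/-!
# The orders of subgroups above the four large local subgroups
-/

set_option autoImplicit false
set_option maxRecDepth 100000

open Cfsg Subgroup

namespace Cfsg.Agent.J4Max

open J4Type.LargePrime (ordJ prodDivisors prodPow mem_prodDivisors)

/-- One congruence: `p` does not divide `m`, or some listed order fits. -/
def okC (m q : ℕ) (l : List ℕ) : Bool :=
  m % q != 0 || l.any fun c => m % c == 0 && (m / c) % q == 1

/-- The congruences of an overgroup not containing the normalisers of the large Sylow subgroups. -/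
def okBig (m : ℕ) : Bool :=
  okC m 23 [46, 253, 506] && okC m 31 [62, 155, 310] && okC m 29 [58, 116, 203, 406] &&
    okC m 37 [74, 111, 148, 222] && okC m 43 [86, 301] &&
      okC m 1331 ((prodDivisors [(2, 4), (3, 1), (5, 1)]).filterMap fun c =>
        if c < 240 then some (1331 * c) else none)

theorem big_H : ((prodDivisors [(11, 2), (23, 1), (29, 1), (31, 1), (37, 1), (43, 1)]).all fun d =>
    let m := 21799895040 * d
    d == 1 || m == ordJ || !(okBig m && okC m 3 [864])) = true := by decide +kernel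

theorem big_V : ((prodDivisors [(11, 2), (29, 1), (31, 1), (37, 1), (43, 1)]).all fun d =>
    let m := 2 ^ 11 * 244823040 * d
    d == 1 || m == ordJ || !okBig m) = true := by decide +kernel

theorem big_A : ((prodDivisors [(2, 1), (3, 1), (11, 3), (23, 1), (29, 1), (37, 1), (43, 1)]).all fun d =>
    let m := 2 ^ 10 * 9999360 * d
    d == 1 || d == 2 || d == 33 || 2 * m == ordJ || m == ordJ || !okBig m) = true := by
  decide +kernel

theorem big_L : ((prodDivisors [(3, 1), (11, 3), (23, 1), (29, 1), (31, 1), (37, 1), (43, 1)]).all fun d =>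
    let m := 2 ^ 15 * 20160 * d
    d == 1 || m == ordJ || !(okBig m && okC m 5 [26880] && okC m 7 [2520])) = true := by decide +kernel

variable {G : Type*} [Group G] [Finite G]

/-- A Sylow 11-subgroup of a subgroup acts freely on the others. -/
theorem Env.count_eleven (E : Env G) {M U : Subgroup G} (hUM : U ≤ M) (hU : Nat.card U = 1331) :
    (Nat.card M / Nat.card (M ⊓ normalizer (U : Set G) : Subgroup G)) % 1331 = 1 := by
  classical
  have : Fact (Nat.Prime 11) := ⟨by norm_num⟩
  have hG := E.facts.card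
  have hUc : Nat.card (U.subgroupOf M) = 11 ^ 3 := by
    rw [Nat.card_congr (subgroupOfEquivOfLe hUM).toEquiv, hU]; norm_num
  obtain ⟨S, hS⟩ := exists_sylow_eq (G := M) hUc fun h => by
    have h' := h.trans (card_subgroup_dvd_card M)
    rw [hG] at h'
    norm_num [ordJ] at h'
  have he : Nat.card (normalizer ((S : Subgroup M) : Set M)) =
      Nat.card (M ⊓ normalizer (U : Set G) : Subgroup G) := by
    rw [hS, ← subgroupOf_normalizer_eq hUM, inf_comm, ← subgroupOf_map_subtype,
      card_map_of_injective (subtype_injective _)]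
  have h2 := (normalizer ((S : Subgroup M) : Set M)).card_mul_index
  rw [← he, ← h2, Nat.mul_div_cancel_left _ Nat.card_pos,
    show (normalizer ((S : Subgroup M) : Set M)).index = Nat.card (Sylow 11 M) from S.card_eq_index_normalizer.symm]
  -- the orbits of `U` on the other Sylow subgroups are regular
  let X := {T : Sylow 11 M // T ≠ S}
  have hfix : ∀ (u : (S : Subgroup M)), (u : M) • S = S := fun u => Sylow.smul_eq_iff_mem_normalizer.2
    (le_normalizer u.2)
  let act : MulAction (S : Subgroup M) X :=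
    { smul := fun u T => ⟨(u : M) • T.1, fun h => T.2 (by
        have := congrArg ((u : M)⁻¹ • ·) h
        simp only [inv_smul_smul] at this
        rwa [show (u : M)⁻¹ • S = S from hfix u⁻¹] at this)⟩
      one_smul := fun T => Subtype.ext (one_smul M T.1)
      mul_smul := fun a b T => Subtype.ext (mul_smul (a : M) (b : M) T.1) }
  have hfree : ∀ T : X, MulAction.stabilizer (S : Subgroup M) T = ⊥ := by
    intro T
    refine eq_bot_iff.2 fun u hu => mem_bot.2 ?_
    by_contra hu1
    have huT : (u : M) • T.1 = T.1 := congrArg Subtype.val (hu : u • T = T)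
    have hmem : (u : M) ∈ (T.1 : Subgroup M) := by
      have hN := Sylow.smul_eq_iff_mem_normalizer.1 huT
      have hle := (IsPGroup.of_card (p := 11) (n := 3) (G := (S : Subgroup M)) (by rw [hS, hUc])).inf_normalizer_sylow T.1
      exact (hle.le ⟨u.2, hN⟩).2
    refine T.2 (Sylow.ext ?_)
    have hTc : Nat.card ((T.1 : Subgroup M).map M.subtype) = 1331 := by
      rw [card_map_of_injective M.subtype_injective, T.1.card_eq_multiplicity, ← S.card_eq_multiplicity,
        hS, hUc]
      norm_num
    have hSU : (S : Subgroup M).map M.subtype = U := by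
      rw [hS, subgroupOf_map_subtype, inf_eq_left.2 hUM]
    have h := E.ti U ((T.1 : Subgroup M).map M.subtype) hU hTc (u : M)
      (hSU ▸ mem_map_of_mem _ u.2) (mem_map_of_mem _ hmem)
      fun h1 => hu1 (Subtype.ext (Subtype.ext h1))
    exact map_injective M.subtype_injective (h.symm.trans hSU.symm)
  have : Fintype (Quotient (MulAction.orbitRel (S : Subgroup M) X)) := Fintype.ofFinite _
  have hcard : Nat.card X = Nat.card (MulAction.orbitRel.Quotient (S : Subgroup M) X) * 1331 := by
    rw [Nat.card_congr (MulAction.selfEquivSigmaOrbitsQuotientStabilizer (S : Subgroup M) X), Nat.card_sigma]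
    have : ∀ ω : MulAction.orbitRel.Quotient (S : Subgroup M) X,
        Nat.card ((S : Subgroup M) ⧸ MulAction.stabilizer (S : Subgroup M) (Quotient.out ω)) = 1331 := by
      intro ω
      show (MulAction.stabilizer (S : Subgroup M) (Quotient.out ω)).index = 1331
      rw [hfree, index_bot, hS, hUc]
      norm_num
    simp only [this, Finset.sum_const, Finset.card_univ, smul_eq_mul, Nat.card_eq_fintype_card]
  have hall : Nat.card (Sylow 11 M) = Nat.card X + 1 := by
    have := Fintype.ofFinite (Sylow 11 M)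
    simp only [X, Nat.card_eq_fintype_card, Fintype.card_subtype_compl, Fintype.card_subtype_eq]
    have := Fintype.card_pos (α := Sylow 11 M)
    omega
  rw [hall, hcard]
  omega

/-- The congruence at a large prime for an overgroup not containing the normaliser. -/
theorem Env.ok_large (E : Env G) {q e : ℕ} (ha : (q, e) ∈ largeList) {M : Subgroup G} (h7 : 7 ∣ Nat.card M)
    {l : List ℕ} (hno : ∀ P : Subgroup G, Nat.card P = q → ¬ normalizer (P : Set G) ≤ M ∨ q * e ∈ l)
    (hl : ∀ c, c ∣ q * e → q ∣ c → c ≠ q → c ≠ q * e → c ∈ l) : okC (Nat.card M) q l = true := by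
  obtain ⟨hp, -, hp2, -⟩ := large_spec _ ha
  have := Fact.mk hp
  by_cases hd : q ∣ Nat.card M
  swap
  · simp [okC, Nat.dvd_iff_mod_eq_zero] at hd ⊢
    exact Or.inl hd
  obtain ⟨P, hPM, hP⟩ := exists_le hd
  obtain ⟨-, hN⟩ := E.large _ ha P hP
  obtain ⟨h1, h2, h3, h4⟩ := count (p := q) (k := 1) hPM (by rwa [pow_one]) (by rw [E.facts.card]; exact hp2) hN
  have hne := E.not_central ha hPM hP h7
  have hmem : Nat.card (M ⊓ normalizer (P : Set G) : Subgroup G) ∈ l := by
    by_cases hfull : Nat.card (M ⊓ normalizer (P : Set G) : Subgroup G) = q * e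
    · rcases hno P hP with h | h
      · refine absurd ?_ h
        have := eq_of_le_of_card_ge (inf_le_right : M ⊓ normalizer (P : Set G) ≤ _) (by rw [hfull]; exact hN.le)
        exact this ▸ inf_le_left
      · rwa [hfull]
    · exact hl _ h2 (by simpa using h1) hne hfull
  simp only [okC, Bool.or_eq_true, List.any_eq_true, Bool.and_eq_true, beq_iff_eq]
  exact Or.inr ⟨_, hmem, Nat.mod_eq_zero_of_dvd h3, h4⟩

/-- A congruence from a normaliser inside the subgroup. -/
theorem ok_full {q n : ℕ} [Fact q.Prime] {k : ℕ} {M P : Subgroup G} (hP : Nat.card P = q ^ k)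
    (hno : ¬ q ^ (k + 1) ∣ Nat.card G) (hN : Nat.card (normalizer (P : Set G)) = n)
    (hle : normalizer (P : Set G) ≤ M) : okC (Nat.card M) q [n] = true := by
  obtain ⟨-, -, h3, h4⟩ := count (le_normalizer.trans hle) hP hno hN
  rw [inf_eq_right.2 hle, hN] at h3 h4
  simp only [okC, Bool.or_eq_true, List.any_eq_true, Bool.and_eq_true, beq_iff_eq]
  exact Or.inr ⟨n, List.mem_singleton.2 rfl, Nat.mod_eq_zero_of_dvd h3, h4⟩

/-- All congruences for a subgroup not containing any of the four small local subgroups. -/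
theorem Env.ok_big (E : Env G) {M : Subgroup G} (h7 : 7 ∣ Nat.card M)
    (hmax : ∀ P : Subgroup G, Nat.card P ∈ [29, 37, 43, 1331] → ¬ normalizer (P : Set G) ≤ M) :
    okBig (Nat.card M) = true := by
  simp only [okBig, Bool.and_eq_true]
  refine ⟨⟨⟨⟨⟨?_, ?_⟩, ?_⟩, ?_⟩, ?_⟩, ?_⟩
  · refine E.ok_large (e := 22) (by simp [largeList]) h7 (fun _ _ => Or.inr (by simp)) fun c h1 h2 h3 h4 => ?_
    obtain ⟨j, rfl⟩ := h2
    have : j ∈ Nat.divisors 22 := Nat.mem_divisors.2 ⟨Nat.dvd_of_mul_dvd_mul_left (by norm_num) h1, by norm_num⟩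
    fin_cases this <;> simp_all
  · refine E.ok_large (e := 10) (by simp [largeList]) h7 (fun _ _ => Or.inr (by simp)) fun c h1 h2 h3 h4 => ?_
    obtain ⟨j, rfl⟩ := h2
    have : j ∈ Nat.divisors 10 := Nat.mem_divisors.2 ⟨Nat.dvd_of_mul_dvd_mul_left (by norm_num) h1, by norm_num⟩
    fin_cases this <;> simp_all
  · refine E.ok_large (e := 28) (by simp [largeList]) h7 (fun P hP => Or.inl (hmax P (by simp [hP])))
      fun c h1 h2 h3 h4 => ?_
    obtain ⟨j, rfl⟩ := h2
    have : j ∈ Nat.divisors 28 := Nat.mem_divisors.2 ⟨Nat.dvd_of_mul_dvd_mul_left (by norm_num) h1, by norm_num⟩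
    fin_cases this <;> simp_all
  · refine E.ok_large (e := 12) (by simp [largeList]) h7 (fun P hP => Or.inl (hmax P (by simp [hP])))
      fun c h1 h2 h3 h4 => ?_
    obtain ⟨j, rfl⟩ := h2
    have : j ∈ Nat.divisors 12 := Nat.mem_divisors.2 ⟨Nat.dvd_of_mul_dvd_mul_left (by norm_num) h1, by norm_num⟩
    fin_cases this <;> simp_all
  · refine E.ok_large (e := 14) (by simp [largeList]) h7 (fun P hP => Or.inl (hmax P (by simp [hP])))
      fun c h1 h2 h3 h4 => ?_
    obtain ⟨j, rfl⟩ := h2
    have : j ∈ Nat.divisors 14 := Nat.mem_divisors.2 ⟨Nat.dvd_of_mul_dvd_mul_left (by norm_num) h1, by norm_num⟩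
    fin_cases this <;> simp_all
  · by_cases hd : 1331 ∣ Nat.card M
    swap
    · simp only [okC, Bool.or_eq_true, bne_iff_ne]
      exact Or.inl fun h => hd (Nat.dvd_of_mod_eq_zero h)
    have : Fact (Nat.Prime 11) := ⟨by norm_num⟩
    obtain ⟨R, hR⟩ := Sylow.exists_subgroup_card_pow_prime 11 (n := 3) (G := M) (by norm_num; exact hd)
    set U := R.map M.subtype
    have hU : Nat.card U = 1331 := by rw [card_map_of_injective M.subtype_injective, hR]; norm_num
    have hUM : U ≤ M := map_subtype_le R
    have hN := E.eleven U hU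
    have h1 : 1331 ∣ Nat.card (M ⊓ normalizer (U : Set G) : Subgroup G) :=
      hU ▸ card_dvd_of_le (le_inf hUM le_normalizer)
    have h2 : Nat.card (M ⊓ normalizer (U : Set G) : Subgroup G) ∣ 319440 := hN ▸ card_dvd_of_le inf_le_right
    have h3 : Nat.card (M ⊓ normalizer (U : Set G) : Subgroup G) ∣ Nat.card M := card_dvd_of_le inf_le_left
    have h4 : Nat.card (M ⊓ normalizer (U : Set G) : Subgroup G) ≠ 319440 := fun h => by
      have := eq_of_le_of_card_ge (inf_le_right : M ⊓ normalizer (U : Set G) ≤ _) (by rw [h]; exact hN.le)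
      exact hmax U (by simp [hU]) (this ▸ inf_le_left)
    have h5 := E.count_eleven hUM hU
    obtain ⟨j, hj⟩ := h1
    rw [hj] at h2 h3 h4 h5
    have hmem : j ∈ prodDivisors [(2, 4), (3, 1), (5, 1)] :=
      mem_prodDivisors _ (by norm_num) j (Nat.dvd_of_mul_dvd_mul_left (by norm_num : 0 < 1331)
        (h2.trans (dvd_of_eq (by norm_num [prodPow]))))
    have hj240 : j < 240 := by
      have h := Nat.le_of_dvd (by norm_num) h2
      omega
    simp only [okC, Bool.or_eq_true, List.any_eq_true, Bool.and_eq_true, beq_iff_eq, List.mem_filterMap]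
    exact Or.inr ⟨1331 * j, ⟨j, hmem, by simp [hj240]⟩, Nat.mod_eq_zero_of_dvd h3, h5⟩

end Cfsg.Agent.J4Max
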