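import Cfsg.Agent.J4Max.Env
import Cfsg.Agent.J4Max.Sieve
import Cfsg.Agent.J4Classes.A.Seven
import Cfsg.Agent.J4Type.Five.Main
import Cfsg.Agent.S5569

/-!
# The normaliser of a Sylow 11-subgroup is maximal, given the same for the primes 29 and 37
-/

set_option autoImplicit false
set_option maxRecDepth 100000

open Cfsg Subgroup

namespace Cfsg.Agent.J4Max

open J4Type.LargePrime (ordJ prodDivisors prodPow mem_prodDivisors)
open LargeExtra (oc oc_le oc_conj_mem)

theorem index_eleven : ((prodDivisors [(2, 17), (3, 2), (7, 1), (23, 1), (29, 1), (31, 1), (37, 1), (43, 1)]).all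
    fun d =>
      let m := 319440 * d
      d % 1331 != 1 || d == 1 || m == ordJ || d == 688128 ||
        !(okC m 29 [29, 58, 116, 203, 406] && okC m 37 [37, 74, 111, 148, 222] &&
          (m % 7 != 0 || okC m 31 [62, 155, 310]))) = true := by decide +kernel

theorem five_options : ∀ c ∈ prodDivisors [(2, 8), (3, 1), (5, 1), (7, 1)],
    c % 240 = 0 → 219815608320 % c = 0 → (219815608320 / c) % 5 = 1 → 1920 ≤ c := by decide +kernel

theorem eleven_options : ∀ x ∈ prodDivisors [(2, 19), (3, 2), (5, 1), (7, 1), (11, 1)],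
    2 ^ 19 ∣ x → 2640 ∣ x → x / 2640 % 11 = 1 → x = 1816657920 := by decide +kernel

theorem seven_options : ∀ c ∈ prodDivisors [(2, 2), (3, 2), (7, 1)],
    c % 7 = 0 → c % 2 = 0 → (1816657920 / c) % 7 ≠ 1 := by decide +kernel

theorem order_two_mod : orderOf (2 : ZMod 11) = 10 := (orderOf_eq_iff (by norm_num)).2 (by decide)

variable {G : Type*} [Group G] [Finite G]

omit [Finite G] in
theorem ord_conj (g x : G) : orderOf (g * x * g⁻¹) = orderOf x := MulEquiv.orderOf_eq (MulAut.conj g) x

omit [Finite G] in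
theorem rel_mul {K L : Subgroup G} (h : K ≤ L) : K.relIndex L * Nat.card K = Nat.card L := by
  rw [← Nat.card_congr (subgroupOfEquivOfLe h).toEquiv, mul_comm]
  exact (K.subgroupOf L).card_mul_index

theorem mem_norm_of_le {n : G} {K : Subgroup G} (h : ∀ x ∈ K, n * x * n⁻¹ ∈ K) :
    n ∈ normalizer (K : Set G) := by
  have he : K.map (MulAut.conj n).toMonoidHom = K := eq_of_le_of_card_ge
    (by rintro _ ⟨x, hx, rfl⟩; exact h x hx) (by rw [card_map_of_injective (MulAut.conj n).injective])
  refine mem_normalizer_iff.2 fun x => ⟨h x, fun hx => ?_⟩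
  obtain ⟨w, hw, e⟩ := he.ge hx
  have e' : w = x := (MulAut.conj n).injective e
  exact e' ▸ hw

omit [Finite G] in
theorem mem_norm_inf {n : G} {K L : Subgroup G} (hK : n ∈ normalizer (K : Set G))
    (hL : n ∈ normalizer (L : Set G)) : n ∈ normalizer ((K ⊓ L : Subgroup G) : Set G) :=
  mem_normalizer_iff.2 fun x => and_congr (mem_normalizer_iff.1 hK x) (mem_normalizer_iff.1 hL x)

theorem card_modEq_cent {q : ℕ} [Fact q.Prime] {g : G} (hg : g ^ q = 1) {Q : Subgroup G}
    (hgN : g ∈ normalizer (Q : Set G)) :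
    Nat.card Q ≡ Nat.card (Q ⊓ centralizer ({g} : Set G) : Subgroup G) [MOD q] := by
  let act : MulAction (zpowers g) Q :=
    { smul := fun h a => ⟨(h : G) * a * (h : G)⁻¹,
        (mem_normalizer_iff.1 (zpowers_le.2 hgN h.2) _).1 a.2⟩
      one_smul := fun a => Subtype.ext (by show (1 : G) * a * (1 : G)⁻¹ = a; group)
      mul_smul := fun h h' a => Subtype.ext (by
        show (h * h' : G) * a * (h * h' : G)⁻¹ = h * (h' * a * (h' : G)⁻¹) * (h : G)⁻¹; group) }
  obtain ⟨k, -, hk⟩ := (Nat.dvd_prime_pow (Fact.out : q.Prime)).1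
    (show Nat.card (zpowers g) ∣ q ^ 1 by rw [Nat.card_zpowers, pow_one]; exact orderOf_dvd_of_pow_eq_one hg)
  have hp : IsPGroup q (zpowers g) := IsPGroup.of_card hk
  refine (hp.card_modEq_card_fixedPoints Q).trans ?_
  rw [show Nat.card (MulAction.fixedPoints (zpowers g) Q) =
      Nat.card (Q ⊓ centralizer ({g} : Set G) : Subgroup G) from ?_]
  refine Nat.card_congr
    { toFun := fun a => ⟨(a.1 : G), a.1.2, mem_centralizer_singleton_iff.2 ?_⟩
      invFun := fun a => ⟨⟨a.1, a.2.1⟩, fun h => Subtype.ext ?_⟩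
      left_inv := fun _ => rfl
      right_inv := fun _ => rfl }
  · exact (mul_inv_eq_iff_eq_mul.1 (congrArg Subtype.val (a.2 ⟨g, mem_zpowers g⟩))).symm
  · show (h : G) * a.1 * (h : G)⁻¹ = a.1
    obtain ⟨i, hi⟩ := mem_zpowers_iff.1 h.2
    rw [← hi, ((show Commute (a.1 : G) g from mem_centralizer_singleton_iff.1 a.2.2).zpow_right i).eq.symm,
      mul_inv_cancel_right]

/-- As `count`, with the bound on the power of the prime on the subgroup. -/
theorem count_in {q k n : ℕ} [Fact q.Prime] {M Q : Subgroup G} (hQM : Q ≤ M) (hQ : Nat.card Q = q ^ k)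
    (hno : ¬ q ^ (k + 1) ∣ Nat.card M) (hN : Nat.card (normalizer (Q : Set G)) = n) :
    q ^ k ∣ Nat.card (M ⊓ normalizer (Q : Set G) : Subgroup G) ∧
      Nat.card (M ⊓ normalizer (Q : Set G) : Subgroup G) ∣ n ∧
      Nat.card (M ⊓ normalizer (Q : Set G) : Subgroup G) ∣ Nat.card M ∧
      (Nat.card M / Nat.card (M ⊓ normalizer (Q : Set G) : Subgroup G)) % q = 1 := by
  refine ⟨hQ ▸ card_dvd_of_le (le_inf hQM le_normalizer), hN ▸ card_dvd_of_le inf_le_right,
    card_dvd_of_le inf_le_left, ?_⟩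
  obtain ⟨S, hS⟩ := exists_sylow_eq (G := M) (P := Q.subgroupOf M)
    (by rw [Nat.card_congr (subgroupOfEquivOfLe hQM).toEquiv, hQ]) hno
  have h1 := card_sylow_modEq_one q M
  rw [S.card_eq_index_normalizer] at h1
  have he : Nat.card (normalizer ((S : Subgroup M) : Set M)) =
      Nat.card (M ⊓ normalizer (Q : Set G) : Subgroup G) := by
    rw [hS, ← subgroupOf_normalizer_eq hQM, inf_comm, ← subgroupOf_map_subtype,
      card_map_of_injective (subtype_injective _)]
  have h2 := (normalizer ((S : Subgroup M) : Set M)).card_mul_index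
  rw [← he, ← h2, Nat.mul_div_cancel_left _ Nat.card_pos]
  unfold Nat.ModEq at h1
  rwa [Nat.mod_eq_of_lt (Fact.out : q.Prime).one_lt] at h1

/-- The five-local facts used. -/
theorem five_local [IsSimpleGroup G] (hG : ¬ IsMulCommutative G) {z : G} {P : Subgroup G}
    (hJ : IsOfJankoFourTypeWith z P) {y : G} (hy : orderOf y = 5) (hyz : y ∈ centralizer ({z} : Set G)) :
    Nat.card (centralizer ({z} : Set G) ⊓ centralizer ({y} : Set G) : Subgroup G) = 960 ∧
      Nat.card (oc z ⊓ centralizer ({y} : Set G) : Subgroup G) = 32 ∧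
      Nat.card (centralizer ({y} : Set G)) = 6720 ∧
      ∀ g : G, Commute g y → g * z * g⁻¹ ∈ oc z := by
  obtain ⟨B, hM⟩ := J4Type.Orbits.exists_model_janko hJ
  obtain ⟨g₀, hg, hne⟩ := J4Type.Base.exists_conj_mem_oc hJ hG
  obtain ⟨y₀, η, C⟩ := J4Type.Five.exists_ctx (J4Type.Base.actData hJ) hM
    ⟨g₀ * z * g₀⁻¹, hg, hne, g₀, rfl⟩
  obtain ⟨h, hh, hmem⟩ := C.five_conj hyz hy
  have hzp : zpowers (h * y * h⁻¹) = zpowers y₀ := eq_of_le_of_card_ge (zpowers_le.2 hmem) (by
    rw [Nat.card_zpowers, Nat.card_zpowers, C.yfive, ord_conj, hy])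
  have hiff : ∀ x : G, Commute x y ↔ Commute (h * x * h⁻¹) y₀ := by
    intro x
    have e1 : Commute x y ↔ Commute (h * x * h⁻¹) (h * y * h⁻¹) := by
      refine ⟨fun hc => hc.map (MulAut.conj h).toMonoidHom, fun hc => ?_⟩
      have := hc.map (MulAut.conj h⁻¹).toMonoidHom
      simpa [mul_assoc] using this
    rw [e1]
    constructor
    · intro hc
      obtain ⟨i, hi⟩ := mem_zpowers_iff.1 (hzp.ge (mem_zpowers y₀))
      exact hi ▸ hc.zpow_right i
    · intro hc
      obtain ⟨i, hi⟩ := mem_zpowers_iff.1 (hzp.le (mem_zpowers (h * y * h⁻¹)))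
      exact hi ▸ hc.zpow_right i
  have hzh : h * z * h⁻¹ = z := mul_inv_eq_iff_eq_mul.2 (mem_centralizer_singleton_iff.1 hh)
  have hy0 : (centralizer ({y} : Set G)).map (MulAut.conj h).toMonoidHom = centralizer ({y₀} : Set G) := by
    ext x
    simp only [mem_map_equiv, MulAut.conj_symm_apply, mem_centralizer_singleton_iff]
    rw [show (h⁻¹ * x * h * y = y * (h⁻¹ * x * h)) = Commute (h⁻¹ * x * h) y from rfl, hiff,
      show h * (h⁻¹ * x * h) * h⁻¹ = x by group]
    rfl
  have hz0 : (centralizer ({z} : Set G)).map (MulAut.conj h).toMonoidHom = centralizer ({z} : Set G) := by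
    ext x
    simp only [mem_map_equiv, MulAut.conj_symm_apply]
    refine ⟨fun hx => ?_, fun hx => mul_mem (mul_mem (inv_mem hh) hx) hh⟩
    have := mul_mem (mul_mem hh hx) (inv_mem hh)
    rwa [show h * (h⁻¹ * x * h) * h⁻¹ = x by group] at this
  have ho0 : (oc z).map (MulAut.conj h).toMonoidHom = oc z := by
    refine eq_of_le_of_card_ge ?_ (by rw [card_map_of_injective (MulAut.conj h).injective])
    rintro _ ⟨e, he, rfl⟩
    exact oc_conj_mem hh he
  have hinj : Function.Injective (MulAut.conj h).toMonoidHom := (MulAut.conj h).injective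
  refine ⟨?_, ?_, ?_, ?_⟩
  · rw [← card_map_of_injective hinj, Subgroup.map_inf _ _ _ hinj, hy0, hz0, inf_comm]
    exact C.card_cyz
  · rw [← card_map_of_injective hinj, Subgroup.map_inf _ _ _ hinj, hy0, ho0]
    have e : oc z ⊓ J4Type.Five.cyz z y₀ = oc z ⊓ centralizer ({y₀} : Set G) := by
      rw [J4Type.Five.cyz, inf_comm (centralizer ({y₀} : Set G)), ← inf_assoc, inf_eq_left.2 (oc_le z)]
    rw [← e]
    exact C.card_cyz_oc
  · rw [← card_map_of_injective hinj, hy0]
    exact C.card_cent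
  · intro g hg'
    have hk : h * g * h⁻¹ ∈ C.nEight :=
      C.cent_eq ▸ mem_centralizer_singleton_iff.2 ((hiff g).1 hg').eq
    have he := (C.nEight_conj hk C.z_mem_eight).1
    have := oc_conj_mem (inv_mem hh) he
    have hzh' : h⁻¹ * z * h = z := by
      calc h⁻¹ * z * h = h⁻¹ * (h * z * h⁻¹) * h := by rw [hzh]
        _ = z := by group
    rwa [show h⁻¹ * (h * g * h⁻¹ * z * (h * g * h⁻¹)⁻¹) * h⁻¹⁻¹ = g * (h⁻¹ * z * h) * g⁻¹ by group,
      hzh'] at this

open J4Type.Eleven in
/-- No subgroup of this order contains the normaliser of a Sylow 11-subgroup. -/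
theorem no_over_eleven [IsSimpleGroup G] (E : Env G) (hG : ¬ IsMulCommutative G) {z r p : G} {P : Subgroup G}
    (hJ : IsOfJankoFourTypeWith z P) (S : J4Classes.B.Setting G z r p P) {M : Subgroup G}
    (hle : normalizer (zpowers r : Set G) ≤ M) : Nat.card M ≠ 219815608320 := by
  intro hm
  have L := S.loc
  obtain ⟨U, hU⟩ := L.exists_syl
  have hord : Nat.card G = ordJ := E.facts.card
  have : Fact (Nat.Prime 2) := ⟨Nat.prime_two⟩
  have : Fact (Nat.Prime 5) := ⟨by norm_num⟩
  have : Fact (Nat.Prime 7) := ⟨by norm_num⟩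
  have : Fact (Nat.Prime 11) := ⟨by norm_num⟩
  set H := centralizer ({z} : Set G) with hH
  set Cr := centralizer ({r} : Set G) with hCr
  have hCrM : Cr ≤ M := (cent_le_norm).trans hle
  have hzC : z ∈ H ⊓ Cr := L.z_mem
  have hzM : z ∈ M := hCrM hzC.2
  have hrM : r ∈ M := hle (le_normalizer (mem_zpowers r))
  have hrH : r ∈ H := mem_cent.2 L.comm.symm
  -- the element of order five
  obtain ⟨g, hgz, hgr⟩ := L.aut
  have hgH : g ∈ H := mem_cent.2 hgz
  have hgN : g ∈ normalizer (zpowers r : Set G) := mem_norm_of_le fun x hx => by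
    obtain ⟨i, rfl⟩ := mem_zpowers_iff.1 hx
    rw [← conj_zpow, hgr]
    exact zpow_mem (pow_mem (mem_zpowers r) 2) i
  have hn : ∀ n : ℕ, g ^ n * r * (g ^ n)⁻¹ = r ^ 2 ^ n := by
    intro n
    induction n with
    | zero => simp
    | succ k ih =>
      rw [pow_succ', show g * g ^ k * r * (g * g ^ k)⁻¹ = g * (g ^ k * r * (g ^ k)⁻¹) * g⁻¹ by group, ih,
        ← conj_pow, hgr, ← pow_mul, ← pow_succ']
  have hten : ∀ n : ℕ, g ^ n ∈ Cr → 10 ∣ n := by
    intro n hmem
    have h1 : r ^ 2 ^ n = r ^ 1 := by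
      rw [← hn n, pow_one, mul_inv_eq_iff_eq_mul]; exact (mem_cent.1 hmem).eq
    have h2 := (pow_eq_iff L.r_order _ _).1 h1
    push_cast at h2
    rw [← order_two_mod]; exact orderOf_dvd_of_pow_eq_one h2
  have hog : 10 ∣ orderOf g := hten _ (by rw [pow_orderOf_eq_one]; exact one_mem _)
  have h25 : ¬ 25 ∣ orderOf g := fun h => by
    have := h.trans (orderOf_dvd_natCard g)
    rw [hord] at this; norm_num [ordJ] at this
  set y := g ^ (orderOf g / 5) with hy
  have hy5 : orderOf y = 5 := orderOf_pow_orderOf_div (orderOf_pos g).ne' ((dvd_trans (by norm_num) hog))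
  have hyH : y ∈ H := pow_mem hgH _
  have hyN : y ∈ normalizer (zpowers r : Set G) := pow_mem hgN _
  have hyM : y ∈ M := hle hyN
  have hgy : Commute g y := Commute.self_pow g _
  -- the group of order eight
  set Q8 := oc z ⊓ Cr with hQ8
  have hQ8c : Nat.card Q8 = 8 := S.oc_eight
  have hnorm : ∀ {n : G}, n ∈ H → n ∈ normalizer (zpowers r : Set G) → n ∈ normalizer (Q8 : Set G) ∧
      n ∈ normalizer ((H ⊓ Cr : Subgroup G) : Set G) := by
    intro n hn1 hn2
    have hCn : n ∈ normalizer (Cr : Set G) := mem_norm_of_le fun x hx => by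
      obtain ⟨i, hi⟩ := mem_zpowers_iff.1 ((mem_normalizer_iff'.1 hn2 (n⁻¹ * r)).2
        (by rw [mul_inv_cancel_left]; exact mem_zpowers r))
      have hc : Commute (n * x * n⁻¹) (n * r ^ i * n⁻¹) :=
        ((mem_cent.1 hx : Commute x r).zpow_right i).map (MulAut.conj n).toMonoidHom
      rw [hi, show n * (n⁻¹ * r * n) * n⁻¹ = r by group] at hc
      exact mem_cent.2 hc
    have hHn : n ∈ normalizer (H : Set G) := le_normalizer hn1
    have hon : n ∈ normalizer ((oc z) : Set G) := mem_norm_of_le fun e he => oc_conj_mem hn1 he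
    exact ⟨mem_norm_inf hon hCn, mem_norm_inf hHn hCn⟩
  have hy5' : y ^ 5 = 1 := by rw [← hy5, pow_orderOf_eq_one]
  have hQ8y : Q8 ≤ centralizer ({y} : Set G) := by
    have h1 := card_modEq_cent hy5' (hnorm hyH hyN).1
    have h2 := card_dvd_of_le (inf_le_left : Q8 ⊓ centralizer ({y} : Set G) ≤ Q8)
    have h3 : Nat.card (Q8 ⊓ centralizer ({y} : Set G) : Subgroup G) = 8 := by
      rw [hQ8c] at h1 h2
      have := Nat.le_of_dvd (by norm_num) h2
      unfold Nat.ModEq at h1
      interval_cases h : Nat.card (Q8 ⊓ centralizer ({y} : Set G) : Subgroup G) <;> omega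
    exact (eq_of_le_of_card_ge inf_le_left (by rw [h3, hQ8c])).ge.trans inf_le_right
  set F := H ⊓ Cr ⊓ centralizer ({y} : Set G) with hF
  have hFc : 24 ∣ Nat.card F := by
    have h8 : 8 ∣ Nat.card F := hQ8c ▸ card_dvd_of_le
      (le_inf (le_inf (inf_le_left.trans (oc_le z)) inf_le_right) hQ8y)
    have h1 := card_modEq_cent hy5' (hnorm hyH hyN).2
    have h2 := card_dvd_of_le (inf_le_left : F ≤ H ⊓ Cr)
    rw [L.card_zr] at h1 h2
    rw [← hF] at h1
    have := Nat.le_of_dvd (by norm_num) h2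
    unfold Nat.ModEq at h1
    obtain ⟨a, ha⟩ := h8
    rw [ha] at h1 h2 this ⊢
    have ha' : a ≤ 33 := by omega
    interval_cases a <;> omega
  -- the centraliser of the element of order five in the subgroup
  set K := H ⊓ normalizer (zpowers r : Set G) ⊓ centralizer ({y} : Set G) with hK
  have hgK : g ∈ K := ⟨⟨hgH, hgN⟩, mem_cent.2 hgy⟩
  have h240 : 240 ∣ Nat.card K := by
    let φ : K →* (ZMod 11)ˣ := (chiHom L.r_order).comp (Subgroup.inclusion (inf_le_left.trans inf_le_right))
    have hk : F.subgroupOf K ≤ φ.ker := fun x hx => by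
      refine (chiHom_eq_one L.r_order _).2 ?_
      exact (mem_subgroupOf.1 hx).1.2
    have hk' : Nat.card F ∣ Nat.card φ.ker := by
      rw [← Nat.card_congr (subgroupOfEquivOfLe
        (show F ≤ K from le_inf (le_inf (inf_le_left.trans inf_le_left)
          (inf_le_left.trans (inf_le_right.trans cent_le_norm))) inf_le_right)).toEquiv]
      exact card_dvd_of_le hk
    have hr' : 10 ∣ Nat.card φ.range := by
      refine dvd_trans ?_ (orderOf_dvd_natCard (⟨φ ⟨g, hgK⟩, ⟨g, hgK⟩, rfl⟩ : φ.range))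
      rw [← Subgroup.orderOf_coe]
      refine hten _ ?_
      have h0 := pow_orderOf_eq_one (φ ⟨g, hgK⟩)
      rw [← map_pow] at h0
      exact (chiHom_eq_one L.r_order _).1 h0
    rw [← φ.ker.card_mul_index, Subgroup.index_ker]
    exact Nat.mul_dvd_mul (hFc.trans hk') hr'
  obtain ⟨hcz, hco, hcy, hgo⟩ := five_local hG hJ hy5 hyH
  have hyP : Nat.card (zpowers y) = 5 ^ 1 := by rw [Nat.card_zpowers, hy5, pow_one]
  have hcyN : centralizer ({y} : Set G) ≤ normalizer (zpowers y : Set G) := by
    rw [← J4Type.LargePrime.centralizer_zpowers]; exact centralizer_le_normalizer _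
  obtain ⟨-, hc2, hc3, hc4⟩ := count (zpowers_le.2 hyM) hyP (by rw [hord]; norm_num [ordJ])
    (E.five _ (by rw [hyP, pow_one]))
  set c := Nat.card (M ⊓ normalizer (zpowers y : Set G) : Subgroup G) with hc
  have hc240 : 240 ∣ c := h240.trans (card_dvd_of_le (le_inf
    ((inf_le_left.trans inf_le_right).trans hle) (inf_le_right.trans hcyN)))
  rw [hm] at hc3 hc4
  have hc1920 : 1920 ≤ c := five_options c
    (mem_prodDivisors [(2, 8), (3, 1), (5, 1), (7, 1)] (by simp; norm_num) c (by simpa [prodPow] using hc2))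
    (Nat.mod_eq_zero_of_dvd hc240) (Nat.mod_eq_zero_of_dvd hc3) hc4
  set D := M ⊓ centralizer ({y} : Set G) with hD
  have hD4 : c ≤ 4 * Nat.card D := by
    have h1 : ((centralizer ({y} : Set G)).relIndex (normalizer (zpowers y : Set G))) = 4 := by
      have h := (rel_mul hcyN)
      rw [hcy, E.five _ (by rw [hyP, pow_one])] at h
      omega
    have h2 : D.relIndex (M ⊓ normalizer (zpowers y : Set G)) ≤ 4 := by
      have e : D.relIndex (M ⊓ normalizer (zpowers y : Set G)) =
          (centralizer ({y} : Set G)).relIndex (M ⊓ normalizer (zpowers y : Set G)) := by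
        rw [hD, ← inf_relIndex_right (centralizer ({y} : Set G)),
          ← inf_relIndex_right (M ⊓ centralizer ({y} : Set G))]
        congr 1
        ext x
        simp only [mem_inf]
        tauto
      rw [e, ← h1]
      exact relIndex_le_of_le_right inf_le_right (by rw [h1]; norm_num)
    rw [hc, ← rel_mul (show D ≤ M ⊓ normalizer (zpowers y : Set G) from inf_le_inf le_rfl hcyN)]
    exact Nat.mul_le_mul_right _ h2
  -- the whole normal 2-subgroup of the centraliser
  set W := M ⊓ oc z with hW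
  have hW8 : 8 < Nat.card W := by
    by_cases hDH : D ≤ H
    · have hDc : D ≤ H ⊓ centralizer ({y} : Set G) := le_inf hDH inf_le_right
      have h1 : D.relIndex (H ⊓ centralizer ({y} : Set G)) ≤ 2 := by
        have h := rel_mul hDc
        rw [hcz] at h
        nlinarith
      have h0 : D.relIndex (H ⊓ centralizer ({y} : Set G)) ≠ 0 := by
        intro e
        have h := rel_mul hDc
        rw [hcz, e] at h
        omega
      have h2 : D.relIndex (oc z ⊓ centralizer ({y} : Set G)) ≤ 2 :=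
        (relIndex_le_of_le_right (inf_le_inf (oc_le z) le_rfl) h0).trans h1
      have h3 := rel_mul (inf_le_right : D ⊓ (oc z ⊓ centralizer ({y} : Set G)) ≤ _)
      rw [inf_relIndex_right, hco] at h3
      have h4 : Nat.card (D ⊓ (oc z ⊓ centralizer ({y} : Set G)) : Subgroup G) ≤ Nat.card W :=
        Nat.le_of_dvd Nat.card_pos (card_dvd_of_le fun x hx => ⟨hx.1.1, hx.2.1⟩)
      nlinarith
    · obtain ⟨x, hxD, hxH⟩ := SetLike.not_le_iff_exists.1 hDH
      set e := x * z * x⁻¹ with he
      have hxM : x ∈ M := hxD.1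
      have heM : e ∈ M := mul_mem (mul_mem hxM hzM) (inv_mem hxM)
      have heW : e ∈ W := ⟨heM, hgo x (mem_cent.1 hxD.2)⟩
      by_contra hW'
      have hQW : Q8 ≤ W := le_inf (inf_le_right.trans hCrM) inf_le_left
      have heQ : e ∈ Q8 := (eq_of_le_of_card_ge hQW (by rw [hQ8c]; omega)).ge heW
      have heo : orderOf e = 2 := by rw [he, ord_conj, L.z_order]
      exact hxH (mem_cent.2 (mul_inv_eq_iff_eq_mul.1 (L.unique e ⟨oc_le z heQ.1, heQ.2⟩ heo)))
  have hocM : oc z ≤ M := by
    have hrW : r ∈ normalizer (W : Set G) := mem_norm_inf (le_normalizer hrM)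
      (mem_norm_of_le fun e he => oc_conj_mem hrH he)
    have h1 := card_modEq_cent (show r ^ 11 = 1 by rw [← L.r_order, pow_orderOf_eq_one]) hrW
    have h2 : W ⊓ Cr = Q8 := le_antisymm (inf_le_inf inf_le_right le_rfl)
      (le_inf (le_inf (inf_le_right.trans hCrM) inf_le_left) inf_le_right)
    rw [← hCr, h2, hQ8c] at h1
    have hoc : Nat.card (oc z) = 2 ^ 13 := hJ.2.2.1
    obtain ⟨k, hk, hk'⟩ := (Nat.dvd_prime_pow Nat.prime_two).1
      (hoc ▸ card_dvd_of_le (inf_le_right : W ≤ oc z))
    rw [hk'] at h1 hW8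
    unfold Nat.ModEq at h1
    have hk13 : k = 13 := by interval_cases k <;> omega
    exact (eq_of_le_of_card_ge (inf_le_right : W ≤ oc z) (by rw [hoc, hk', hk13])).ge.trans inf_le_left
  -- the centraliser of the involution in the subgroup
  set X := M ⊓ H with hX
  have hX19 : 2 ^ 19 ∣ Nat.card X := by
    have hp : IsPGroup 2 ((oc z).subgroupOf M) :=
      (LargeExtra.oc_isPGroup z).of_equiv (subgroupOfEquivOfLe hocM).symm
    obtain ⟨T, hT⟩ := hp.exists_le_sylow
    have hTc : Nat.card T = 2 ^ 19 := by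
      rw [T.card_eq_multiplicity, hm, show (219815608320 : ℕ) = 2 ^ 19 * 419265 by norm_num,
        Nat.factorization_mul (by norm_num) (by norm_num), Finsupp.add_apply,
        Nat.Prime.factorization_pow Nat.prime_two, Finsupp.single_eq_same,
        Nat.factorization_eq_zero_of_not_dvd (show ¬ 2 ∣ 419265 by norm_num)]
    set T' := (T : Subgroup M).map M.subtype with hT'
    have hT'c : Nat.card T' = 2 ^ 19 := by rw [hT', card_map_of_injective M.subtype_injective, hTc]
    have hocT : oc z ≤ T' := fun e he => ⟨⟨e, hocM he⟩, hT (mem_subgroupOf.2 he), rfl⟩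
    have : Nontrivial T' := Finite.one_lt_card_iff_nontrivial.1 (by rw [hT'c]; norm_num)
    have hnt : Nontrivial (Subgroup.center T') := (IsPGroup.of_card hT'c).center_nontrivial
    obtain ⟨⟨a, ha⟩, hane⟩ := exists_ne (1 : Subgroup.center T')
    have hac : ∀ x ∈ T', Commute x (a : G) := fun x hx =>
      congrArg (Subtype.val : T' → G) (Subgroup.mem_center_iff.1 ha ⟨x, hx⟩)
    have hzE : z ∈ oc z := J4Type.Base.z_mem hJ
    have haH : (a : G) ∈ H := mem_cent.2 (hac z (hocT hzE)).symm
    have hao : (a : G) ∈ oc z := hJ.2.2.2.1 ⟨haH, mem_centralizer_iff.2 fun x hx => hac x (hocT hx)⟩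
    have haz : (a : G) = z := by
      have hmem : (⟨a, hao⟩ : J4Type.Base.Ez z) ∈ Subgroup.center (J4Type.Base.Ez z) :=
        Subgroup.mem_center_iff.2 fun x => Subtype.ext (hac x (hocT x.2))
      rw [J4Type.Base.center_Ez hJ] at hmem
      obtain ⟨i, hi⟩ := mem_zpowers_iff.1 hmem
      have hi' : z ^ i = (a : G) := congrArg Subtype.val hi
      rcases J4Type.Base.zpowers_cases hJ (hi' ▸ mem_zpowers_iff.2 ⟨i, rfl⟩ : (a : G) ∈ zpowers z) with h | h
      · exact absurd (Subtype.ext (Subtype.ext h)) hane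
      · exact h
    refine hT'c ▸ card_dvd_of_le (le_inf (map_subtype_le _) fun x hx => ?_)
    exact mem_cent.2 (haz ▸ hac x hx)
  have hX2640 : 2640 ∣ Nat.card X := by
    have hKX : K ≤ X := le_inf ((inf_le_left.trans inf_le_right).trans hle) (inf_le_left.trans inf_le_left)
    have h11 : 11 ∣ Nat.card X := by
      have := orderOf_dvd_natCard (⟨r, hrM, hrH⟩ : X)
      rwa [← Subgroup.orderOf_coe, L.r_order] at this
    exact Nat.Coprime.mul_dvd_of_dvd_of_dvd (by norm_num : Nat.Coprime 240 11) (h240.trans (card_dvd_of_le hKX)) h11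
  have hXd : Nat.card X ∣ 1816657920 := by
    have h := Nat.dvd_gcd (card_dvd_of_le (inf_le_left : X ≤ M)) (card_dvd_of_le (inf_le_right : X ≤ H))
    rwa [hm, hH, L.card_z] at h
  have hXc : Nat.card X = 1816657920 := by
    have h11' : ¬ 11 ^ (1 + 1) ∣ Nat.card X := fun h => by
      have := h.trans hXd
      norm_num at this
    obtain ⟨-, d2, d3, d4⟩ := count_in (show zpowers r ≤ X from zpowers_le.2 ⟨hrM, hrH⟩)
      (by rw [Nat.card_zpowers, L.r_order, pow_one]) h11' (L.card_norm hU)
    have hd : Nat.card (X ⊓ normalizer (zpowers r : Set G) : Subgroup G) = 2640 := by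
      refine Nat.dvd_antisymm ?_ ?_
      · have h := Nat.dvd_gcd d2 (d3.trans hXd)
        norm_num at h
        exact h
      · refine Nat.Coprime.mul_dvd_of_dvd_of_dvd (by norm_num : Nat.Coprime 240 11)
          (h240.trans (card_dvd_of_le ?_)) ?_
        · exact le_inf (le_inf ((inf_le_left.trans inf_le_right).trans hle) (inf_le_left.trans inf_le_left))
            (inf_le_left.trans inf_le_right)
        · rw [← L.r_order, ← Nat.card_zpowers]
          exact card_dvd_of_le (le_inf (zpowers_le.2 ⟨hrM, hrH⟩) le_normalizer)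
    rw [hd] at d4
    exact eleven_options _ (mem_prodDivisors [(2, 19), (3, 2), (5, 1), (7, 1), (11, 1)]
      (by simp; norm_num) _ (by simpa [prodPow] using hXd)) hX19 hX2640 d4
  -- the element of order seven
  obtain ⟨⟨x, hxX⟩, hx⟩ := exists_prime_orderOf_dvd_card' (G := X) 7 (by rw [hXc]; norm_num)
  rw [orderOf_mk] at hx
  obtain ⟨p', σ, i, D7⟩ := J4Classes.exists_sevenData hG hJ fun u hu hnc =>
    S5569.result hG z ⟨P, hJ⟩ u hu hnc
  obtain ⟨h, hh, hmem⟩ := D7.exists_conj_seven (τ := x) (by rw [← hx, pow_orderOf_eq_one])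
    (mem_cent.1 hxX.2).eq
  have hzp : zpowers (h * x * h⁻¹) = zpowers σ := eq_of_le_of_card_ge (zpowers_le.2 hmem) (by
    rw [Nat.card_zpowers, Nat.card_zpowers, D7.o7, ord_conj, hx])
  have h252 : Nat.card (X ⊓ normalizer (zpowers x : Set G) : Subgroup G) ∣ 252 := by
    rw [← D7.card252, ← hzp, ← card_map_of_injective (f := (MulAut.conj h).toMonoidHom) (MulAut.conj h).injective]
    refine card_dvd_of_le ?_
    rintro _ ⟨w, ⟨hwX, hwN⟩, rfl⟩
    refine ⟨?_, ?_⟩
    · have hwH : w ∈ centralizer ({z} : Set G) := hwX.2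
      exact (mul_mem (mul_mem hh hwH) (inv_mem hh) : h * w * h⁻¹ ∈ centralizer ({z} : Set G))
    · show MulAut.conj h w ∈ normalizer (zpowers (h * x * h⁻¹) : Set G)
      have e : zpowers (h * x * h⁻¹) = (zpowers x).map (MulAut.conj h).toMonoidHom := by
        rw [MonoidHom.map_zpowers]; rfl
      rw [e, ← map_equiv_normalizer_eq (zpowers x) (MulAut.conj h)]
      exact ⟨w, hwN, rfl⟩
  obtain ⟨e1, -, -, e4⟩ := count (show zpowers x ≤ X from zpowers_le.2 hxX)
    (by rw [Nat.card_zpowers, hx, pow_one]) (by rw [hord]; norm_num [ordJ]) (E.seven _ (by rw [Nat.card_zpowers, hx]))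
  rw [hXc] at e4
  refine seven_options _ (mem_prodDivisors [(2, 2), (3, 2), (7, 1)] (by simp; norm_num) _
    (by simpa [prodPow] using h252)) (Nat.mod_eq_zero_of_dvd (by simpa using e1)) ?_ e4
  refine Nat.mod_eq_zero_of_dvd ?_
  have hzN : z ∈ X ⊓ normalizer (zpowers x : Set G) := ⟨⟨hzM, hzC.1⟩,
    (centralizer_le_normalizer _) (by
      rw [J4Type.LargePrime.centralizer_zpowers]; exact mem_cent.2 (mem_cent.1 hxX.2).symm)⟩
  have := orderOf_dvd_natCard (⟨z, hzN⟩ : ↥(X ⊓ normalizer (zpowers x : Set G)))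
  rwa [← Subgroup.orderOf_coe, L.z_order] at this

/-- The normaliser of a subgroup of order 1331 is maximal, given maximality at 29 and 37. -/
theorem max_eleven [IsSimpleGroup G] (E : Env G) (hG : ¬ IsMulCommutative G) (hJ : IsOfJankoFourType G)
    (h29 : ∀ Q : Subgroup G, Nat.card Q = 29 → IsCoatom (normalizer (Q : Set G)))
    (h37 : ∀ Q : Subgroup G, Nat.card Q = 37 → IsCoatom (normalizer (Q : Set G)))
    (U : Subgroup G) (hU : Nat.card U = 1331) : IsCoatom (normalizer (U : Set G)) := by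
  have hord : Nat.card G = ordJ := E.facts.card
  have hNc := E.eleven U hU
  refine ⟨fun e => ?_, fun M hlt => ?_⟩
  · have := congrArg (fun K : Subgroup G => Nat.card K) e
    simp only [card_top, hNc, hord] at this
    norm_num [ordJ] at this
  by_contra hM
  have : Fact (Nat.Prime 11) := ⟨by norm_num⟩
  have hdvd : 319440 ∣ Nat.card M := hNc ▸ card_dvd_of_le hlt.le
  obtain ⟨d, hd⟩ := hdvd
  have hd1 : d ≠ 1 := fun e => hlt.ne (eq_of_le_of_card_ge hlt.le (by rw [hd, hNc, e, mul_one]))
  have hmt : Nat.card M ≠ ordJ := fun e => hM (eq_top_of_card_eq _ (by rw [e, hord]))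
  have hd1331 : d % 1331 = 1 := by
    have h := E.count_eleven (le_normalizer.trans hlt.le) hU
    rwa [inf_eq_right.2 hlt.le, hNc, hd, Nat.mul_div_cancel_left _ (by norm_num)] at h
  have hok : ∀ q e : ℕ, (q, e) ∈ largeList → q * e < 319440 →
      (∀ Q : Subgroup G, Nat.card Q = q → IsCoatom (normalizer (Q : Set G))) → ∀ l : List ℕ,
      (∀ c ∈ prodDivisors [(q, 1), (2, 2), (3, 1), (7, 1)], c ∣ q * e → q ∣ c → c ≠ q * e → c ∈ l) →
      e ∣ 84 → okC (Nat.card M) q l = true := by
    intro q e ha hlt' hmax l hl he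
    obtain ⟨hp, -, hp2, -⟩ := large_spec _ ha
    have := Fact.mk hp
    simp only [okC, Bool.or_eq_true, bne_iff_ne, List.any_eq_true, Bool.and_eq_true, beq_iff_eq]
    by_cases hq : q ∣ Nat.card M
    swap
    · exact Or.inl fun h => hq (Nat.dvd_of_mod_eq_zero h)
    right
    obtain ⟨Q, hQM, hQ⟩ := exists_le hq
    obtain ⟨c1, c2, c3, c4⟩ := count (k := 1) hQM (by rw [hQ, pow_one]) (by rw [hord]; exact hp2)
      (E.large _ ha Q hQ).2
    have hN : Nat.card (normalizer (Q : Set G)) = q * e := (E.large _ ha Q hQ).2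
    refine ⟨_, hl _ (mem_prodDivisors _ ?_ _ ?_) c2 (by simpa using c1) ?_, Nat.mod_eq_zero_of_dvd c3, c4⟩
    · simp only [List.forall_mem_cons, List.not_mem_nil]
      exact ⟨hp, by norm_num, by norm_num, by norm_num, fun _ h => h.elim⟩
    · simp only [prodPow, pow_one]
      exact c2.trans (Nat.mul_dvd_mul_left q (he.trans (by norm_num)))
    · intro hc
      have hNM : normalizer (Q : Set G) ≤ M := by
        rw [← eq_of_le_of_card_ge (inf_le_right : M ⊓ normalizer (Q : Set G) ≤ _)
          (by rw [hc, hN])]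
        exact inf_le_left
      rcases eq_or_lt_of_le hNM with h | h
      · have h' := card_dvd_of_le hlt.le
        rw [hNc, ← h, hN] at h'
        change q * e < 319440 at hlt'
        have := Nat.le_of_dvd (Nat.mul_pos hp.pos (Nat.pos_of_ne_zero fun h0 => by
          rw [h0] at he; norm_num at he)) h'
        exact absurd hlt' (not_lt.2 this)
      · exact hM ((hmax Q hQ).2 M h)
  have o29 := hok 29 28 (by simp [largeList]) (by norm_num) h29 [29, 58, 116, 203, 406] (by decide) (by norm_num)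
  have o37 := hok 37 12 (by simp [largeList]) (by norm_num) h37 [37, 74, 111, 148, 222] (by decide) (by norm_num)
  have o31 : Nat.card M % 7 = 0 → okC (Nat.card M) 31 [62, 155, 310] = true := fun h7 => by
    refine E.ok_large (e := 10) (by simp [largeList]) (Nat.dvd_of_mod_eq_zero h7) (fun _ _ => Or.inr (by simp))
      fun c h1 h2 h3 h4 => ?_
    have hm' := mem_prodDivisors [(31, 1), (2, 1), (5, 1)] (by simp; norm_num) c (by simpa [prodPow] using h1)
    revert h1 h2 h3 h4; revert c
    decide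
  have hdd : d ∣ ordJ / 319440 := by
    have h := hord ▸ card_subgroup_dvd_card M
    rw [hd] at h
    exact (Nat.dvd_div_iff_mul_dvd (by norm_num [ordJ])).2 h
  have hmem : d ∈ prodDivisors [(2, 17), (3, 2), (7, 1), (23, 1), (29, 1), (31, 1), (37, 1), (43, 1)] :=
    mem_prodDivisors _ (by simp; norm_num) d (hdd.trans (by norm_num [prodPow, ordJ]))
  have hcheck := List.all_eq_true.1 index_eleven d hmem
  rw [← hd] at hcheck
  simp only [Bool.or_eq_true, bne_iff_ne, beq_iff_eq, Bool.not_eq_true', Bool.and_eq_false_iff] at hcheck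
  rcases hcheck with ((((h | h) | h) | h) | h)
  · exact h hd1331
  · exact hd1 h
  · exact hmt h
  · obtain ⟨z, P, hP⟩ := hJ
    obtain ⟨r, p, S⟩ := J4Classes.B.exists_setting hG hP
    obtain ⟨U₀, hU₀⟩ := S.loc.exists_syl
    obtain ⟨T₀, hT₀⟩ := hU₀.exists_sylow S.loc
    obtain ⟨T, hT⟩ := exists_sylow_eq (p := 11) (k := 3) (P := U) (by rw [hU]; norm_num)
      (by rw [hord]; norm_num [ordJ])
    obtain ⟨g, hg⟩ := MulAction.exists_smul_eq G T T₀
    refine no_over_eleven E hG hP S (M := M.map (MulAut.conj g).toMonoidHom) ?_ ?_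
    · have e : U₀ = U.map (MulAut.conj g).toMonoidHom := by rw [← hT₀, ← hg, ← hT]; rfl
      rw [← hU₀.normalizer_eq S.loc, e, ← map_equiv_normalizer_eq U (MulAut.conj g)]
      exact map_mono hlt.le
    · rw [card_map_of_injective (MulAut.conj g).injective, hd, h]
  · rcases h with (h | h) | h
    · exact Bool.false_ne_true (h.symm.trans o29)
    · exact Bool.false_ne_true (h.symm.trans o37)
    · by_cases h7 : Nat.card M % 7 = 0
      · rw [o31 h7] at h; simp at h
      · rw [show (Nat.card M % 7 != 0) = true from bne_iff_ne.2 h7] at h; simp at h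

end Cfsg.Agent.J4Max
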