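import Cfsg.Agent.J4Max.Base

/-!
# The normaliser facts for a simple group of Janko-four type; distinct Sylow 11-subgroups meet trivially
-/

set_option autoImplicit false

open Cfsg Subgroup

namespace Cfsg.Agent.J4Max

open J4Type.Eleven

variable {G : Type*} [Group G] [Finite G] {z r p : G} {P : Subgroup G}

/-- The elements of `U` outside `⟨r⟩` are not conjugate to `r`. -/
theorem not_conj_outside (S : J4Classes.B.Setting G z r p P) {U : Subgroup G}
    (hU : SylData (z := z) (r := r) U) {u : G} (hu : u ∈ U) (hu' : u ∉ zpowers r) : ¬ IsConj r u := by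
  intro h
  have hna := hU.not_comm S.loc S.cent_t S.big
  obtain ⟨t, ht, htz⟩ := S.exists_t
  obtain ⟨x, y, hx, hy, hxy, -⟩ := hU.two_classes S.loc S.cent_t hna ht htz
  have key : ∀ w : G, orderOf w = 11 → IsConj r w := fun w hw => by
    rcases hU.conj_cases S.loc hw with hw' | ⟨v, hv, hv', hvw⟩
    · exact hw'
    · exact (h.trans (hU.conj_outside S.loc hna hu hu' hv hv')).trans hvw
  exact hxy ((key x hx).symm.trans (key y hy))

/-- A Sylow 11-subgroup meeting `U` nontrivially is `U`. -/
theorem eq_conj (S : J4Classes.B.Setting G z r p P) {U : Subgroup G} (hU : SylData (z := z) (r := r) U)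
    {u g : G} (hu : u ∈ U) (hu1 : u ≠ 1) (hug : g⁻¹ * u * g ∈ U) :
    g ∈ normalizer (zpowers r : Set G) := by
  have L := S.loc
  have hna := hU.not_comm L S.cent_t S.big
  have : Fact (Nat.Prime 11) := ⟨by norm_num⟩
  set u' := g⁻¹ * u * g with hu'def
  have hu'1 : u' ≠ 1 := fun h => hu1 (by
    calc u = g * u' * g⁻¹ := by rw [hu'def]; group
      _ = 1 := by rw [h]; group)
  have hcj : IsConj u' u := isConj_iff.2 ⟨g, by rw [hu'def]; group⟩
  have hpow : ∀ v ∈ zpowers r, v ≠ 1 → IsConj r v := by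
    intro v hv hv1
    obtain ⟨k, rfl⟩ := exists_pow_of_mem hv
    have hk0 : (k : ZMod 11) ≠ 0 := fun h0 => hv1 (orderOf_dvd_iff_pow_eq_one.1 (by
      rw [L.r_order]; exact (ZMod.natCast_eq_zero_iff k 11).1 h0))
    obtain ⟨n, hn⟩ := L.chi_surjective hU (Units.mk0 _ hk0)
    exact isConj_iff.2 ⟨n, (chiHom_spec L.r_order n k).2 (by rw [hn]; rfl)⟩
  have hgen : ∀ v ∈ zpowers r, v ≠ 1 → zpowers v = zpowers r := fun v hv hv1 =>
    eq_of_le_of_card_ge (zpowers_le.2 hv) (by
      rw [Nat.card_zpowers, Nat.card_zpowers, L.r_order,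
        show orderOf v = 11 by
          obtain ⟨c, rfl⟩ := isConj_iff.1 (hpow v hv hv1)
          rw [show c * r * c⁻¹ = MulAut.conj c r from rfl, MulEquiv.orderOf_eq, L.r_order]])
  suffices key : g * r * g⁻¹ ∈ zpowers r by
    refine mem_normalizer_iff.2 fun x => ?_
    have hmap : (zpowers r).map (MulAut.conj g).toMonoidHom = zpowers r := by
      rw [MonoidHom.map_zpowers]
      exact hgen _ key fun h => by
        have := L.r_order
        rw [show r = 1 from conj_eq_one_iff.1 h, orderOf_one] at this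
        norm_num at this
    constructor
    · intro hx
      exact hmap.le ⟨x, hx, rfl⟩
    · intro hx
      obtain ⟨y, hy, e⟩ := hmap.ge hx
      have : y = x := by simpa using e
      exact this ▸ hy
  by_cases hur : u ∈ zpowers r
  · have hu'r : u' ∈ zpowers r := by
      by_contra hn
      exact not_conj_outside S hU hug hn ((hpow u hur hu1).trans hcj.symm)
    have hr : r ∈ zpowers u' := (hgen u' hu'r hu'1).ge (mem_zpowers r)
    obtain ⟨i, rfl⟩ : ∃ i : ℕ, u' ^ i = r := by
      obtain ⟨i, hi⟩ := exists_pow_of_mem hr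
      exact ⟨i, hi.symm⟩
    rw [← conj_pow, show g * u' * g⁻¹ = u by rw [hu'def]; group]
    exact pow_mem hur i
  · have hu'r : u' ∉ zpowers r := fun hm =>
      not_conj_outside S hU hu hur ((hpow u' hm hu'1).trans hcj)
    obtain ⟨t, w, -, -, hwo, -, hwr, hcw⟩ := J4Classes.B.exists_second S
    have hC : Nat.card (centralizer ({u} : Set G)) ≤ 242 := by
      rcases hU.conj_cases L hwo with h | ⟨v, hv, hv', h⟩
      · exact absurd h hwr
      · obtain ⟨c, hc⟩ := isConj_iff.1 ((hU.conj_outside L hna hu hur hv hv').trans h)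
        rw [← J4Type.LargePrime.card_centralizer_conj c u, hc]
        exact hcw
    set C := centralizer ({u} : Set G) with hCdef
    set D := U ⊓ C
    have hrD : zpowers r ≤ D := zpowers_le.2 ⟨hU.mem,
      mem_centralizer_singleton_iff.2 (hU.commute_r hu).eq⟩
    have huD : u ∈ D := ⟨hu, mem_centralizer_singleton_iff.2 rfl⟩
    obtain ⟨k, -, hk⟩ := (Nat.dvd_prime_pow (by norm_num : Nat.Prime 11)).1
      (show Nat.card D ∣ 11 ^ 3 by
        rw [show (11 : ℕ) ^ 3 = 1331 by norm_num, ← hU.card]; exact card_dvd_of_le inf_le_left)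
    have hk2 : 2 ≤ k := by
      by_contra hlt
      have h := eq_of_le_of_card_ge hrD (by
        rw [hk, Nat.card_zpowers, L.r_order]
        exact le_trans (Nat.pow_le_pow_right (by norm_num) (show k ≤ 1 by omega)) (by norm_num))
      exact hur (h ▸ huD)
    set r' := g * r * g⁻¹
    have hr'C : r' ∈ C := mem_centralizer_singleton_iff.2 (by
      have h := ((hU.commute_r hug).map (MulAut.conj g).toMonoidHom).eq
      simp only [MulEquiv.coe_toMonoidHom, MulAut.conj_apply] at h
      rwa [show g * u' * g⁻¹ = u by rw [hu'def]; group] at h)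
    have hr'11 : orderOf r' = 11 := by
      rw [show r' = MulAut.conj g r from rfl, MulEquiv.orderOf_eq, L.r_order]
    have hr'D : r' ∈ D := by
      have hDC : D ≤ C := inf_le_right
      have hkC := (card_dvd_of_le hDC)
      rw [hk] at hkC
      have h121 : 11 ^ 2 ∣ Nat.card C := (pow_dvd_pow 11 hk2).trans hkC
      have hk3 : k = 2 := by
        by_contra hne
        have := Nat.le_of_dvd Nat.card_pos ((pow_dvd_pow 11 (show 3 ≤ k by omega)).trans hkC)
        omega
      subst hk3
      have hsmall : Nat.card C = 121 ∨ Nat.card C = 242 := by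
        obtain ⟨j, hj⟩ := h121
        have := Nat.card_pos (α := C)
        omega
      have hn : (D.subgroupOf C).Normal := by
        obtain ⟨T, hT⟩ := exists_sylow_eq (p := 11) (k := 2) (G := C) (P := D.subgroupOf C)
          (by rw [Nat.card_congr (subgroupOfEquivOfLe hDC).toEquiv, hk])
          (fun h => by rcases hsmall with e | e <;> rw [e] at h <;> norm_num at h)
        have h1 := card_sylow_modEq_one 11 C
        have h2 := T.card_dvd_index
        have h3 := (T : Subgroup C).card_mul_index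
        rw [hT, Nat.card_congr (subgroupOfEquivOfLe hDC).toEquiv, hk, ← hT] at h3
        have hn1 : Nat.card (Sylow 11 C) = 1 := by
          have hle := Nat.le_of_dvd (by omega) h2
          unfold Nat.ModEq at h1
          omega
        have : Subsingleton (Sylow 11 C) := (Nat.card_eq_one_iff_unique.1 hn1).1
        exact hT ▸ Sylow.normal_of_subsingleton T
      set q : C ⧸ D.subgroupOf C := QuotientGroup.mk ⟨r', hr'C⟩
      have hq1 : orderOf q ∣ 11 := orderOf_dvd_of_pow_eq_one (by
        rw [← QuotientGroup.mk_pow, show (⟨r', hr'C⟩ : C) ^ 11 = 1 from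
          Subtype.ext (hr'11 ▸ pow_orderOf_eq_one r')]
        rfl)
      have hq2 : orderOf q ∣ 2 := by
        have h := (D.subgroupOf C).card_mul_index
        rw [Nat.card_congr (subgroupOfEquivOfLe hDC).toEquiv, hk] at h
        refine (orderOf_dvd_natCard q).trans ?_
        show (D.subgroupOf C).index ∣ 2
        rcases hsmall with e | e <;> rw [e] at h
        · rw [show (D.subgroupOf C).index = 1 by omega]; norm_num
        · rw [show (D.subgroupOf C).index = 2 by omega]
      exact mem_subgroupOf.1 ((QuotientGroup.eq_one_iff _).1 (orderOf_eq_one_iff.1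
        (Nat.eq_one_of_dvd_coprimes (by norm_num) hq1 hq2)))
    by_contra hn
    exact not_conj_outside S hU hr'D.1 hn (isConj_iff.2 ⟨g, rfl⟩)

/-- The normaliser facts. -/
theorem exists_env [IsSimpleGroup G] (hG : ¬ IsMulCommutative G) (hJ : IsOfJankoFourType G) : Env G := by
  obtain ⟨z, P, hP⟩ := hJ
  have hJ : IsOfJankoFourType G := ⟨z, P, hP⟩
  obtain ⟨r, p, S⟩ := J4Classes.B.exists_setting hG hP
  obtain ⟨U₀, hU₀⟩ := S.loc.exists_syl
  have F := S.loc.facts
  have hord := F.card
  have : Fact (Nat.Prime 11) := ⟨by norm_num⟩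
  obtain ⟨S₀, hS₀⟩ := hU₀.exists_sylow S.loc
  have hconj : ∀ U : Subgroup G, Nat.card U = 1331 →
      ∃ g : G, U = U₀.map (MulAut.conj g).toMonoidHom := by
    intro U hU
    obtain ⟨T, hT⟩ := exists_sylow_eq (p := 11) (k := 3) (P := U) (by rw [hU]; norm_num)
      (by rw [hord]; norm_num [J4Type.LargePrime.ordJ])
    obtain ⟨g, hg⟩ := MulAction.exists_smul_eq G S₀ T
    exact ⟨g, by rw [← hT, ← hg, ← hS₀]; rfl⟩
  refine ⟨F, ?_, ?_, ?_, ?_, ?_⟩
  · intro a ha Q hQ
    obtain ⟨hp, -, hp2, -⟩ := large_spec a ha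
    have := Fact.mk hp
    obtain ⟨T, hT⟩ := exists_sylow_eq (p := a.1) (k := 1) (P := Q) (by rw [hQ, pow_one])
      (by rw [hord]; exact hp2)
    obtain ⟨k23, k29, k31, k37, k43⟩ := Cfsg.Agent.S5577.result hG hJ
    simp only [largeList, List.mem_cons, List.not_mem_nil, or_false] at ha
    rcases ha with rfl | rfl | rfl | rfl | rfl
    · exact hT ▸ k23 T
    · exact hT ▸ k29 T
    · exact hT ▸ k31 T
    · exact hT ▸ k37 T
    · exact hT ▸ k43 T
  · intro Q hQ
    have : Fact (Nat.Prime 5) := ⟨by norm_num⟩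
    have hz : 5 ∣ Nat.card (centralizer ({z} : Set G)) := by rw [S.loc.card_z]; norm_num
    obtain ⟨Q', hQ'le, hQ'⟩ := exists_le hz
    obtain ⟨-, -, -, hn⟩ := Cfsg.Agent.S5572.result hG z ⟨P, hP⟩ Q' hQ' hQ'le
    obtain ⟨T, hT⟩ := exists_sylow_eq (p := 5) (k := 1) (P := Q) (by rw [hQ, pow_one])
      (by rw [hord]; norm_num [J4Type.LargePrime.ordJ])
    obtain ⟨T', hT'⟩ := exists_sylow_eq (p := 5) (k := 1) (P := Q') (by rw [hQ', pow_one])
      (by rw [hord]; norm_num [J4Type.LargePrime.ordJ])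
    obtain ⟨g, hg⟩ := MulAction.exists_smul_eq G T' T
    rw [← hT, ← hg]
    show Nat.card (normalizer (((T' : Subgroup G).map (MulAut.conj g).toMonoidHom : Subgroup G) : Set G)) = _
    rw [hT', ← map_equiv_normalizer_eq Q' (MulAut.conj g), card_map_of_injective (MulAut.conj g).injective,
      hn]
    norm_num
  · intro Q hQ
    have : Fact (Nat.Prime 7) := ⟨by norm_num⟩
    obtain ⟨x, hx⟩ := exists_prime_orderOf_dvd_card' (G := Q) 7 (by rw [hQ])
    have h : zpowers (x : G) = Q := eq_of_le_of_card_ge (zpowers_le.2 x.2)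
      (by rw [Nat.card_zpowers, Subgroup.orderOf_coe, hx, hQ])
    rw [← h]
    exact (F.seven _ (by rw [Subgroup.orderOf_coe, hx])).2
  · intro U hU
    obtain ⟨g, rfl⟩ := hconj U hU
    rw [← map_equiv_normalizer_eq U₀ (MulAut.conj g), card_map_of_injective (MulAut.conj g).injective,
      hU₀.normalizer_eq S.loc, S.loc.card_norm hU₀]
  · intro U U' hU hU' u hu hu' hu1
    obtain ⟨a, rfl⟩ := hconj U hU
    obtain ⟨b, rfl⟩ := hconj U' hU'
    obtain ⟨v, hv, rfl⟩ := hu
    obtain ⟨v', hv', e⟩ := hu'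
    simp only [MulEquiv.coe_toMonoidHom, MulAut.conj_apply] at e hu1
    have hv1 : v ≠ 1 := fun h => hu1 (by rw [h]; group)
    have hg : (b⁻¹ * a)⁻¹ * v' * (b⁻¹ * a) = v := by
      calc (b⁻¹ * a)⁻¹ * v' * (b⁻¹ * a) = a⁻¹ * (b * v' * b⁻¹) * a := by group
        _ = v := by rw [e]; group
    have hv'1 : v' ≠ 1 := fun h => hv1 (by rw [← hg, h]; group)
    have hm := eq_conj S hU₀ hv' hv'1 (hg ▸ hv)
    rw [← hU₀.normalizer_eq S.loc] at hm
    ext x
    simp only [mem_map_equiv, MulAut.conj_symm_apply]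
    have h := mem_normalizer_iff.1 hm (a⁻¹ * x * a)
    rw [show b⁻¹ * a * (a⁻¹ * x * a) * (b⁻¹ * a)⁻¹ = b⁻¹ * x * b by group] at h
    exact h

end Cfsg.Agent.J4Max
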