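import Cfsg.Agent.J4Max.Sieve

/-!
# Subgroups with elements of orders 29, 37 and 43 are everything; complements at seven
-/

set_option autoImplicit false
set_option maxRecDepth 100000

open Cfsg Subgroup

namespace Cfsg.Agent.J4Max

open J4Type.LargePrime (ordJ prodDivisors prodPow mem_prodDivisors)

/-- The congruences at the five large primes. -/
def okAll (m : ℕ) : Bool :=
  largeList.all fun a => okC m a.1 (((List.range a.2).map (· + 1)).filterMap fun e =>
    if a.2 % e = 0 then some (a.1 * e) else none)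

theorem gen_check : ((prodDivisors [(2, 21), (3, 3), (5, 1), (7, 1), (11, 3), (23, 1), (31, 1)]).all fun d =>
    let m := 46139 * d
    m == ordJ || 2 * m == ordJ || !okAll m) = true := by decide +kernel

variable {G : Type*} [Group G] [Finite G]

/-- The congruences hold in every subgroup. -/
theorem Env.ok_all (E : Env G) (M : Subgroup G) : okAll (Nat.card M) = true := by
  refine List.all_eq_true.2 fun a ha => ?_
  obtain ⟨hp, -, hp2, -⟩ := large_spec a ha
  have := Fact.mk hp
  by_cases hd : a.1 ∣ Nat.card M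
  swap
  · simp [okC, Nat.dvd_iff_mod_eq_zero] at hd ⊢
    exact Or.inl hd
  obtain ⟨P, hPM, hP⟩ := exists_le hd
  obtain ⟨-, hN⟩ := E.large _ ha P hP
  obtain ⟨h1, h2, h3, h4⟩ := count (p := a.1) (k := 1) hPM (by rwa [pow_one])
    (by rw [E.facts.card]; exact hp2) hN
  rw [pow_one] at h1
  obtain ⟨e, he⟩ := h1
  rw [he] at h2 h3 h4
  have he2 : e ∣ a.2 := Nat.dvd_of_mul_dvd_mul_left hp.pos h2
  have ha2 : 0 < a.2 := (by decide : ∀ a ∈ largeList, 0 < a.2) a ha
  simp only [okC, Bool.or_eq_true, List.any_eq_true, Bool.and_eq_true, beq_iff_eq, List.mem_filterMap]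
  refine Or.inr ⟨a.1 * e, ⟨e, List.mem_map.2 ⟨e - 1, List.mem_range.2 ?_, ?_⟩, ?_⟩, Nat.mod_eq_zero_of_dvd h3,
    h4⟩
  · have := Nat.le_of_dvd ha2 he2
    have := Nat.pos_of_dvd_of_pos he2 ha2
    omega
  · have := Nat.pos_of_dvd_of_pos he2 ha2
    omega
  · simp [Nat.mod_eq_zero_of_dvd he2]

/-- A subgroup with elements of orders 29, 37 and 43 is everything. -/
theorem Env.eq_top [IsSimpleGroup G] (E : Env G) {M : Subgroup G} {u v w : G} (hu : u ∈ M) (hv : v ∈ M)
    (hw : w ∈ M) (ou : orderOf u = 29) (ov : orderOf v = 37) (ow : orderOf w = 43) : M = ⊤ := by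
  have key : ∀ {x : G}, x ∈ M → orderOf x ∣ Nat.card M := fun {x} hx => by
    have := orderOf_dvd_natCard (⟨x, hx⟩ : M)
    rwa [orderOf_mk] at this
  have h46 : 46139 ∣ Nat.card M := by
    rw [show 46139 = 29 * 37 * 43 by norm_num]
    exact Nat.Coprime.mul_dvd_of_dvd_of_dvd (by norm_num)
      (Nat.Coprime.mul_dvd_of_dvd_of_dvd (by norm_num) (ou ▸ key hu) (ov ▸ key hv)) (ow ▸ key hw)
  obtain ⟨d, hd⟩ := h46
  have hG := E.facts.card
  have hdd : d ∣ prodPow [(2, 21), (3, 3), (5, 1), (7, 1), (11, 3), (23, 1), (31, 1)] := by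
    refine Nat.dvd_of_mul_dvd_mul_left (show 0 < 46139 by norm_num) ?_
    rw [← hd]
    exact (card_subgroup_dvd_card M).trans (dvd_of_eq (by rw [hG]; norm_num [prodPow, ordJ]))
  have h := List.all_eq_true.1 gen_check d (mem_prodDivisors _ (by norm_num) d hdd)
  have hok := E.ok_all M
  rw [hd] at hok
  simp only [hok, Bool.not_true, Bool.or_false, Bool.or_eq_true, beq_iff_eq] at h
  rcases h with h | h
  · exact eq_top_of_card_eq M (by rw [hd, hG, h])
  · have hidx : M.index = 2 := by
      have h2 := M.card_mul_index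
      rw [hG, hd, ← h, mul_comm 2] at h2
      exact Nat.eq_of_mul_eq_mul_left (hd ▸ Nat.card_pos) h2
    rcases (Subgroup.normal_of_index_eq_two hidx).eq_bot_or_eq_top with e | e
    · rw [e, card_bot] at hd
      omega
    · exact e

/-- An element of order seven normalises a Sylow subgroup in a normal 7-complement. -/
theorem Env.not_dvd_of_seven (E : Env G) {M : Subgroup G} {y : G} (hyM : y ∈ M) (hy : orderOf y = 7)
    (hc : M ⊓ normalizer (zpowers y : Set G) ≤ centralizer ({y} : Set G)) {q : ℕ}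
    (hq : q ∈ [11, 23, 31, 37]) : ¬ q ∣ Nat.card M := by
  intro hqM
  have hqp : q.Prime := by fin_cases hq <;> norm_num
  have := Fact.mk hqp
  have : Fact (Nat.Prime 7) := ⟨by norm_num⟩
  have hG := E.facts.card
  have hP7 : Nat.card (zpowers y) = 7 := by rw [Nat.card_zpowers, hy]
  have hle' : zpowers y ≤ M := zpowers_le.2 hyM
  obtain ⟨S, hS⟩ := exists_sylow_eq (G := M) (P := (zpowers y).subgroupOf M) (p := 7) (k := 1)
    (by rw [Nat.card_congr (subgroupOfEquivOfLe hle').toEquiv, hP7, pow_one])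
    (fun h => by
      have h' := h.trans (card_subgroup_dvd_card M)
      rw [hG] at h'
      norm_num [ordJ] at h')
  have hle : normalizer ((S : Subgroup M) : Set M) ≤ centralizer ((S : Subgroup M) : Set M) := by
    intro x hx
    rw [hS, ← subgroupOf_normalizer_eq hle', mem_subgroupOf] at hx
    have hxy : Commute (x : G) y := mem_centralizer_singleton_iff.1 (hc ⟨x.2, hx⟩)
    refine mem_centralizer_iff.2 fun s hs => ?_
    rw [hS] at hs
    obtain ⟨i, hi⟩ := mem_zpowers_iff.1 (mem_subgroupOf.1 hs)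
    refine Subtype.ext ?_
    show (s : G) * x = x * s
    rw [← hi]
    exact (hxy.zpow_right i).eq.symm
  have hK := MonoidHom.ker_transferSylow_isComplement' S hle
  set K := (MonoidHom.transferSylow S hle).ker
  have hcard := hK.card_mul_card
  rw [hS, Nat.card_congr (subgroupOfEquivOfLe hle').toEquiv, hP7] at hcard
  have hqK : q ∣ Nat.card K := by
    refine (Nat.Coprime.dvd_mul_right ?_).1 (hcard ▸ hqM)
    exact (Nat.coprime_primes hqp (by norm_num)).2 (by rintro rfl; simp at hq)
  obtain ⟨Q⟩ := (inferInstance : Nonempty (Sylow q K))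
  set R := normalizer (((Q : Subgroup K).map K.subtype : Subgroup M) : Set M)
  set Qg := ((Q : Subgroup K).map K.subtype).map M.subtype
  have h7R : 7 ∣ Nat.card R := by
    have hmap : R.map (QuotientGroup.mk' K) = ⊤ := by
      rw [← top_le_iff, ← map_top_of_surjective _ (QuotientGroup.mk'_surjective K),
        ← Sylow.normalizer_sup_eq_top Q, Subgroup.map_sup, QuotientGroup.map_mk'_self, sup_bot_eq]
    have h := R.card_map_dvd (QuotientGroup.mk' K)
    rw [hmap, card_top, ← K.index_eq_card, hK.symm.index_eq_card, hS,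
      Nat.card_congr (subgroupOfEquivOfLe hle').toEquiv, hP7] at h
    exact h
  obtain ⟨w, hw⟩ := exists_prime_orderOf_dvd_card' (G := R) 7 h7R
  set g : G := ((w : M) : G)
  have hg : orderOf g = 7 := by
    rw [show g = ((w : M) : G) from rfl, Subgroup.orderOf_coe, Subgroup.orderOf_coe, hw]
  have hgN : g ∈ normalizer (Qg : Set G) := le_normalizer_map M.subtype ⟨w, w.2, rfl⟩
  have hQc : Nat.card Qg = q ^ (Nat.card K).factorization q := by
    rw [card_map_of_injective M.subtype_injective, card_map_of_injective K.subtype_injective,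
      Q.card_eq_multiplicity]
  set k := (Nat.card K).factorization q
  have hk1 : 1 ≤ k := (hqp.dvd_iff_one_le_factorization Nat.card_pos.ne').1 hqK
  have hQd : q ^ k ∣ ordJ := hG ▸ hQc ▸ card_subgroup_dvd_card Qg
  have hk3 : k ≤ 3 := by
    by_contra h
    have h4 := (pow_dvd_pow q (show 4 ≤ k by omega)).trans hQd
    fin_cases hq <;> norm_num [ordJ] at h4
  -- the fixed points
  let act : MulAction (zpowers g) Qg :=
    { smul := fun h a => ⟨(h : G) * a * (h : G)⁻¹,
        (mem_normalizer_iff.1 (zpowers_le.2 hgN h.2) _).1 a.2⟩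
      one_smul := fun a => Subtype.ext (by show (1 : G) * a * (1 : G)⁻¹ = a; group)
      mul_smul := fun h h' a => Subtype.ext (by
        show (h * h' : G) * a * (h * h' : G)⁻¹ = h * (h' * a * (h' : G)⁻¹) * (h : G)⁻¹; group) }
  have hp : IsPGroup 7 (zpowers g) := IsPGroup.of_card (n := 1) (by rw [Nat.card_zpowers, hg, pow_one])
  have h := hp.card_modEq_card_fixedPoints Qg
  have hfix : Nat.card (MulAction.fixedPoints (zpowers g) Qg) =
      Nat.card (Qg ⊓ centralizer ({g} : Set G) : Subgroup G) := by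
    refine Nat.card_congr
      { toFun := fun a => ⟨(a.1 : G), a.1.2, mem_centralizer_singleton_iff.2 ?_⟩
        invFun := fun a => ⟨⟨a.1, a.2.1⟩, fun h => Subtype.ext ?_⟩
        left_inv := fun _ => rfl
        right_inv := fun _ => rfl }
    · exact (mul_inv_eq_iff_eq_mul.1 (congrArg Subtype.val (a.2 ⟨g, mem_zpowers g⟩))).symm
    · show (h : G) * a.1 * (h : G)⁻¹ = a.1
      obtain ⟨i, hi⟩ := mem_zpowers_iff.1 h.2
      rw [← hi, ((show Commute (a.1 : G) g from mem_centralizer_singleton_iff.1 a.2.2).zpow_right i).eq.symm,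
        mul_inv_cancel_right]
  have hone : Nat.card (Qg ⊓ centralizer ({g} : Set G) : Subgroup G) = 1 := by
    have h1 : Nat.card (Qg ⊓ centralizer ({g} : Set G) : Subgroup G) ∣ Nat.gcd (q ^ k) 840 :=
      Nat.dvd_gcd (hQc ▸ card_dvd_of_le inf_le_left) ((E.facts.seven g hg).1 ▸ card_dvd_of_le inf_le_right)
    have h2 : Nat.Coprime (q ^ k) 840 := Nat.Coprime.pow_left k (by fin_cases hq <;> norm_num)
    rw [h2] at h1
    exact Nat.dvd_one.1 h1
  rw [hQc, hfix, hone] at h
  have hk : q = 11 ∧ k = 3 := by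
    unfold Nat.ModEq at h
    fin_cases hq <;> interval_cases k <;>
      first | (norm_num [ordJ] at hQd; done) | (norm_num at h; done) | norm_num
  obtain ⟨rfl, hk3'⟩ := hk
  have h7 : 7 ∣ 319440 := by
    rw [← E.eleven Qg (by rw [hQc, hk3']; norm_num), ← hg]
    have := orderOf_dvd_natCard (⟨g, hgN⟩ : normalizer (Qg : Set G))
    rwa [orderOf_mk] at this
  norm_num at h7

end Cfsg.Agent.J4Max
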