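import Cfsg.Agent.J4Max.Sieve
import Cfsg.Agent.S5570
import Cfsg.Agent.S5573

/-!
# No overgroup of index thirty-three above the normaliser of a group of order `2 ^ 10`
-/

set_option autoImplicit false
set_option maxRecDepth 100000

open Cfsg Subgroup

namespace Cfsg.Agent.J4Max

open J4Type.LargePrime (ordJ prodDivisors prodPow mem_prodDivisors)

abbrev SL5 : Type := Matrix.SpecialLinearGroup (Fin 5) (ZMod 2)

/-- An element of order seven. -/
def mY : SL5 := ⟨!![0, 0, 1, 0, 0; 1, 0, 1, 0, 0; 0, 1, 0, 0, 0; 0, 0, 0, 1, 0; 0, 0, 0, 0, 1], by decide +kernel⟩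

/-- An element of order three commuting with it. -/
def mS : SL5 := ⟨!![1, 0, 0, 0, 0; 0, 1, 0, 0, 0; 0, 0, 1, 0, 0; 0, 0, 0, 0, 1; 0, 0, 0, 1, 1], by decide +kernel⟩

/-- An element squaring it. -/
def mD : SL5 := ⟨!![1, 0, 0, 0, 0; 0, 0, 1, 0, 0; 0, 1, 1, 0, 0; 0, 0, 0, 1, 0; 0, 0, 0, 0, 1], by decide +kernel⟩

theorem mats_ok : mY ^ 7 = 1 ∧ mY ≠ 1 ∧ mS ^ 3 = 1 ∧ mS ≠ 1 ∧ mY * mS = mS * mY ∧
    mD * mY = mY ^ 2 * mD := by decide +kernel

theorem alt_five : ∀ σ : Equiv.Perm (Fin 5), Equiv.Perm.sign σ = 1 → σ ^ 6 = 1 → σ ^ 3 = 1 ∨ σ ^ 2 = 1 := by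
  decide +kernel

theorem opts_seven : ∀ c ∈ prodDivisors [(2, 3), (3, 2), (5, 1), (7, 1)], c % 7 = 0 →
    (337898373120 % c = 0 ∧ (337898373120 / c) % 7 = 1) → c % 21 = 0 → c = 84 ∨ c = 1260 := by
  decide +kernel

variable {G : Type*} [Group G] [Finite G]

/-- The order of `S₅`. -/
theorem card_perm5 : Nat.card (Equiv.Perm (Fin 5)) = 120 := by
  rw [Nat.card_perm, Nat.card_eq_fintype_card, Fintype.card_fin]; rfl

omit [Finite G] in
/-- The relative index times the order. -/
theorem relIndex_mul {K L : Subgroup G} (h : K ≤ L) : K.relIndex L * Nat.card K = Nat.card L := by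
  rw [← Nat.card_congr (subgroupOfEquivOfLe h).toEquiv, mul_comm]
  exact (K.subgroupOf L).card_mul_index

/-- The seat of order seven excludes the index. -/
theorem Env.seat_A [IsSimpleGroup G] (E : Env G) (hG : ¬ IsMulCommutative G) (hJ : IsOfJankoFourType G)
    {A M : Subgroup G} (hA : IsElementaryAbelian 2 A) (hcA : Nat.card A = 2 ^ 10)
    (hCA : centralizer (A : Set G) = A) (hle : normalizer (A : Set G) ≤ M) :
    Nat.card M ≠ 337898373120 := by
  intro hm
  have : Fact (Nat.Prime 7) := ⟨by norm_num⟩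
  obtain ⟨⟨B, hBN, hBA, -, ⟨eB⟩⟩, -⟩ := (Cfsg.Agent.S5570.result hG hJ).2.2 A hA hcA hCA
  let f : SL5 →* G := B.subtype.comp eB.symm.toMonoidHom
  have hf : Function.Injective f := B.subtype_injective.comp eB.symm.injective
  have hfM : ∀ a, f a ∈ M := fun a => hle (hBN (eB.symm a).2)
  have hfN : ∀ a, f a ∈ normalizer (A : Set G) := fun a => hBN (eB.symm a).2
  set y := f mY
  set s := f mS
  set d := f mD
  have hy7 : orderOf y = 7 := by
    rw [orderOf_injective f hf]
    exact orderOf_eq_prime mats_ok.1 mats_ok.2.1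
  have hs3 : orderOf s = 3 := by
    rw [orderOf_injective f hf]
    exact orderOf_eq_prime mats_ok.2.2.1 mats_ok.2.2.2.1
  have hys : Commute y s := by
    show f mY * f mS = f mS * f mY
    rw [← map_mul, ← map_mul, mats_ok.2.2.2.2.1]
  have hdy : d * y * d⁻¹ = y ^ 2 := by
    show f mD * f mY * (f mD)⁻¹ = f mY ^ 2
    rw [← map_mul, mats_ok.2.2.2.2.2, map_mul, map_pow, mul_inv_cancel_right]
  set N₇ := normalizer (zpowers y : Set G)
  set C := centralizer ({y} : Set G)
  have hP7 : Nat.card (zpowers y) = 7 := by rw [Nat.card_zpowers, hy7]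
  have hord := E.facts.card
  obtain ⟨hC840, hN2520⟩ := E.facts.seven y hy7
  -- one involution of `A` is centralised by `y`
  have hD : Nat.card (A ⊓ C : Subgroup G) = 2 := by
    let act : MulAction (zpowers y) A :=
      { smul := fun g a => ⟨(g : G) * a * (g : G)⁻¹,
          (mem_normalizer_iff.1 (zpowers_le.2 (hfN mY) g.2) _).1 a.2⟩
        one_smul := fun a => Subtype.ext (by show (1 : G) * a * (1 : G)⁻¹ = a; group)
        mul_smul := fun g h a => Subtype.ext (by
          show (g * h : G) * a * (g * h : G)⁻¹ = g * (h * a * (h : G)⁻¹) * (g : G)⁻¹; group) }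
    have hp : IsPGroup 7 (zpowers y) := IsPGroup.of_card (n := 1) (by rw [Nat.card_zpowers, hy7, pow_one])
    have h := hp.card_modEq_card_fixedPoints A
    have hfix : Nat.card (MulAction.fixedPoints (zpowers y) A) = Nat.card (A ⊓ C : Subgroup G) := by
      refine Nat.card_congr
        { toFun := fun a => ⟨(a.1 : G), a.1.2, mem_centralizer_singleton_iff.2 ?_⟩
          invFun := fun a => ⟨⟨a.1, a.2.1⟩, fun g => Subtype.ext ?_⟩
          left_inv := fun _ => rfl
          right_inv := fun _ => rfl }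
      · exact (mul_inv_eq_iff_eq_mul.1 (congrArg Subtype.val (a.2 ⟨y, mem_zpowers y⟩))).symm
      · show (g : G) * a.1 * (g : G)⁻¹ = a.1
        obtain ⟨i, hi⟩ := mem_zpowers_iff.1 g.2
        rw [← hi, ((show Commute (a.1 : G) y from mem_centralizer_singleton_iff.1 a.2.2).zpow_right i).eq.symm,
          mul_inv_cancel_right]
    rw [hcA, hfix] at h
    have h1 : Nat.card (A ⊓ C : Subgroup G) ∣ Nat.gcd 840 1024 :=
      Nat.dvd_gcd (hC840 ▸ card_dvd_of_le inf_le_right)
        ((card_dvd_of_le inf_le_left).trans (dvd_of_eq (by rw [hcA]; norm_num)))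
    have h2 : Nat.card (A ⊓ C : Subgroup G) ≤ 8 := Nat.le_of_dvd (by norm_num) h1
    unfold Nat.ModEq at h
    omega
  obtain ⟨⟨a, haD⟩, ha2⟩ := exists_prime_orderOf_dvd_card' (G := (A ⊓ C : Subgroup G)) 2 (hp := ⟨Nat.prime_two⟩) (by rw [hD])
  rw [orderOf_mk] at ha2
  have hDa : (A ⊓ C : Subgroup G) = zpowers a :=
    (eq_of_le_of_card_ge (zpowers_le.2 haD) (by rw [hD, Nat.card_zpowers, ha2])).symm
  have haM : a ∈ M := hle (le_normalizer haD.1)
  have has : Commute a s := by
    have hm : s * a * s⁻¹ ∈ A ⊓ C := by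
      refine ⟨(mem_normalizer_iff.1 (hfN mS) a).1 haD.1, mem_centralizer_singleton_iff.2 ?_⟩
      have h1 : Commute a y := mem_centralizer_singleton_iff.1 haD.2
      exact (Commute.mul_left (Commute.mul_left hys.symm h1) hys.symm.inv_left).eq
    rw [hDa] at hm
    have ha' : s * a * s⁻¹ = 1 ∨ s * a * s⁻¹ = a := by
      obtain ⟨k, hk⟩ := mem_zpowers_iff.1 hm
      rw [← hk, ← zpow_mod_orderOf a k, ha2]
      rcases Int.emod_two_eq_zero_or_one k with h | h <;> simp [h]
    rcases ha' with h | h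
    · rw [conj_eq_one_iff] at h
      rw [h, orderOf_one] at ha2
      norm_num at ha2
    · exact (mul_inv_eq_iff_eq_mul.1 h).symm
  have hCN : C ≤ N₇ := fun g hg => J4Type.mem_normalizer_zpowers.2 (by
    rw [mul_inv_eq_iff_eq_mul.2 (mem_centralizer_singleton_iff.1 hg)]; exact mem_zpowers y)
  set X := M ⊓ N₇
  set CX := M ⊓ C
  have hCX : CX ≤ X := inf_le_inf_left M hCN
  have hyX : y ∈ CX := ⟨hfM mY, mem_centralizer_singleton_iff.2 rfl⟩
  have hsX : s ∈ CX := ⟨hfM mS, mem_centralizer_singleton_iff.2 hys.symm.eq⟩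
  have haX : a ∈ CX := ⟨haM, haD.2⟩
  obtain ⟨hd1, hd2, hd3, hd4⟩ := count (p := 7) (k := 1) (n := 2520) (zpowers_le.2 (hfM mY))
    (hP7.trans (pow_one 7).symm) (by rw [hord]; norm_num [ordJ]) hN2520
  rw [hm] at hd3 hd4
  have hd42 : 42 ∣ Nat.card CX := by
    have h7 : 7 ∣ Nat.card CX := by
      have := orderOf_dvd_natCard (⟨y, hyX⟩ : CX)
      rwa [orderOf_mk, hy7] at this
    have h3 : 3 ∣ Nat.card CX := by
      have := orderOf_dvd_natCard (⟨s, hsX⟩ : CX)
      rwa [orderOf_mk, hs3] at this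
    have h2 : 2 ∣ Nat.card CX := by
      have := orderOf_dvd_natCard (⟨a, haX⟩ : CX)
      rwa [orderOf_mk, ha2] at this
    omega
  have hcard := relIndex_mul hCX
  have hk3 : CX.relIndex X ≤ 3 := by
    have h1 : CX.relIndex X = C.relIndex X := by
      rw [show CX = C ⊓ X from le_antisymm (le_inf inf_le_right hCX)
        (le_inf (inf_le_right.trans inf_le_left) inf_le_left), inf_relIndex_right]
    have h2 : C.relIndex N₇ = 3 := by
      have h := relIndex_mul hCN
      rw [hC840, hN2520] at h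
      omega
    have h3 : C.relIndex X ≤ C.relIndex N₇ := relIndex_le_of_le_right inf_le_right (by rw [h2]; norm_num)
    omega
  rcases opts_seven _ (mem_prodDivisors _ (by norm_num) _ (hd2.trans (dvd_of_eq (by norm_num [prodPow]))))
    (Nat.mod_eq_zero_of_dvd (by simpa using hd1)) ⟨Nat.mod_eq_zero_of_dvd hd3, hd4⟩
    (Nat.mod_eq_zero_of_dvd (((show 21 ∣ 42 by norm_num).trans hd42).trans (card_dvd_of_le hCX))) with hc | hc
  · have hdX : d ∈ X := ⟨hfM mD, J4Type.mem_normalizer_zpowers.2 (hdy ▸ pow_mem (mem_zpowers y) 2)⟩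
    have hdC : d ∉ CX := fun h => by
      have e := mul_inv_eq_iff_eq_mul.2 (mem_centralizer_singleton_iff.1 h.2)
      rw [hdy] at e
      have : y ^ 1 = y ^ 0 := by
        rw [pow_one, pow_zero]
        calc y = y ^ 2 * y⁻¹ := by group
          _ = 1 := by rw [e, mul_inv_cancel]
      rw [pow_one, pow_zero] at this
      rw [this, orderOf_one] at hy7
      norm_num at hy7
    have hidx : (CX.subgroupOf X).index = 2 := by
      have h0 : Nat.card CX ≤ 84 := hc ▸ card_le_of_le hCX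
      have hne : Nat.card CX ≠ 84 := fun e => hdC ((eq_of_le_of_card_ge hCX (by rw [hc, e])).ge hdX)
      have h42 : Nat.card CX = 42 := by
        have := Nat.card_pos (α := CX)
        omega
      show CX.relIndex X = 2
      rw [h42, show Nat.card X = 84 from hc] at hcard
      omega
    have := Subgroup.normal_of_index_eq_two hidx
    have hd3' : d ^ 3 = 1 := by
      show f mD ^ 3 = 1
      rw [← map_pow, show mD ^ 3 = 1 by decide +kernel, map_one]
    have h2 := pow_index_mem (CX.subgroupOf X) (⟨d, hdX⟩ : X)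
    rw [hidx, mem_subgroupOf] at h2
    push_cast at h2
    refine hdC ?_
    rw [show d = (d ^ 2)⁻¹ from eq_inv_of_mul_eq_one_left (by rw [← pow_succ', hd3'])]
    exact inv_mem h2
  have h420 : Nat.card CX = 420 := by
    have hle420 : Nat.card CX ∣ Nat.gcd 840 1260 :=
      Nat.dvd_gcd (hC840 ▸ card_dvd_of_le inf_le_right) (hc ▸ card_dvd_of_le hCX)
    have := Nat.le_of_dvd (by norm_num) hle420
    rw [show Nat.card X = 1260 from hc] at hcard
    rw [show Nat.gcd 840 1260 = 420 from rfl] at this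
    nlinarith
  -- the component isomorphic to the symmetric group
  obtain ⟨I, hI, hI5⟩ : ∃ I : Subgroup G, IsInternalDirectProduct (zpowers y) I C ∧
      Nonempty (I ≃* Equiv.Perm (Fin 5)) := by
    obtain ⟨z, hz⟩ := hJ
    have hz7 : 7 ∣ Nat.card (centralizer ({z} : Set G)) := by
      obtain ⟨P, hP⟩ := hz
      rw [J4Type.card_centralizer_z hP]; norm_num
    obtain ⟨Q, hQle, hQ⟩ := exists_le hz7
    obtain ⟨-, ⟨I, hI, ⟨eI⟩⟩, -, -⟩ := Cfsg.Agent.S5573.result hG z hz Q hQ hQle
    obtain ⟨S₁, hS₁⟩ := exists_sylow_eq (p := 7) (k := 1) (hQ.trans (pow_one 7).symm)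
      (by rw [hord]; norm_num [ordJ])
    obtain ⟨S₂, hS₂⟩ := exists_sylow_eq (p := 7) (k := 1) (hP7.trans (pow_one 7).symm)
      (by rw [hord]; norm_num [ordJ])
    obtain ⟨g, hg⟩ := MulAction.exists_smul_eq G S₁ S₂
    set φ : G →* G := (MulAut.conj g).toMonoidHom with hφ
    have hmap : Q.map φ = zpowers y := by rw [← hS₂, ← hg, ← hS₁]; rfl
    have hmapC : (centralizer (Q : Set G)).map φ = C := by
      rw [show C = centralizer (zpowers y : Set G) from (J4Type.LargePrime.centralizer_zpowers y).symm, ← hmap]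
      ext x
      rw [hφ, mem_map_equiv, mem_centralizer_iff, mem_centralizer_iff]
      constructor
      · rintro h _ ⟨q, hq, rfl⟩
        have e := congrArg (MulAut.conj g) (h q hq)
        simpa [mul_assoc] using e
      · intro h q hq
        have e := congrArg (MulAut.conj g).symm (h _ ⟨q, hq, rfl⟩)
        simpa [mul_assoc] using e
    obtain ⟨h1, h2, h3, h4, h5⟩ := hI
    have hinj : Function.Injective φ := (MulAut.conj g).injective
    refine ⟨I.map φ, ⟨hmap ▸ hmapC ▸ map_mono h1, hmapC ▸ map_mono h2, ?_, ?_, ?_⟩,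
      ⟨(I.equivMapOfInjective φ hinj).symm.trans eI⟩⟩
    · rw [← hmap]
      rintro _ ⟨u, hu, rfl⟩ _ ⟨v, hv, rfl⟩
      rw [← map_mul, ← map_mul, h3 u hu v hv]
    · rw [← hmap, ← Subgroup.map_inf _ _ _ hinj, h4, Subgroup.map_bot]
    · rw [← hmap, ← Subgroup.map_sup, h5, hmapC]
  obtain ⟨eI⟩ := hI5
  obtain ⟨-, hIC, hcomm, -, hsup⟩ := hI
  have hI120 : Nat.card I = 120 := by rw [Nat.card_congr eI.toEquiv]; exact card_perm5
  have hI7 : I.relIndex C = 7 := by
    have h := relIndex_mul hIC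
    rw [hI120, hC840] at h
    omega
  have hIX : Nat.card (I ⊓ CX : Subgroup G) = 60 := by
    have h1 : Nat.card (I ⊓ CX : Subgroup G) ∣ Nat.gcd 120 420 :=
      Nat.dvd_gcd (hI120 ▸ card_dvd_of_le inf_le_left) (h420 ▸ card_dvd_of_le inf_le_right)
    have h2 := Nat.le_of_dvd (by norm_num) h1
    have h3 := relIndex_mul (inf_le_right : I ⊓ CX ≤ CX)
    rw [h420, inf_relIndex_right] at h3
    have h4 : I.relIndex CX ≤ 7 := hI7 ▸ relIndex_le_of_le_right inf_le_right (by rw [hI7]; norm_num)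
    have : 420 ≤ 7 * Nat.card (I ⊓ CX : Subgroup G) := h3 ▸ Nat.mul_le_mul_right _ h4
    rw [show Nat.gcd 120 420 = 60 from rfl] at h2
    omega
  -- an element of order six
  have hx6 : orderOf (a * s) = 6 := by
    rw [has.orderOf_mul_eq_mul_orderOf_of_coprime (by rw [ha2, hs3]; norm_num), ha2, hs3]
  have hxI : a * s ∈ I := by
    have hnI : (I.subgroupOf C).Normal := by
      refine (normal_subgroupOf_iff_le_normalizer hIC).2 ?_
      rw [← hsup]
      refine sup_le (fun u hu => mem_normalizer_iff.2 fun v => ⟨fun hv => ?_, fun hv => ?_⟩) le_normalizer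
      · rw [hcomm u hu v hv, mul_inv_cancel_right]; exact hv
      · have e := hcomm u hu _ hv
        have : u * (u * v * u⁻¹) = u * (u * v * u⁻¹) := rfl
        rw [show v = u⁻¹ * (u * v * u⁻¹) * u by group, show u⁻¹ * (u * v * u⁻¹) * u = u⁻¹ * ((u * v * u⁻¹) * u) by
          group, ← e, inv_mul_cancel_left]
        exact hv
    have hxC : a * s ∈ C := mul_mem haD.2 hsX.2
    have h7 := pow_index_mem (I.subgroupOf C) (⟨a * s, hxC⟩ : C)
    rw [show (I.subgroupOf C).index = 7 from hI7, mem_subgroupOf] at h7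
    push_cast at h7
    rwa [show (7 : ℕ) = 6 + 1 from rfl, pow_succ, ← hx6, pow_orderOf_eq_one, one_mul] at h7
  set K := ((I ⊓ CX).subgroupOf I).map eI.toMonoidHom
  have hK : K.index = 2 := by
    have h := K.card_mul_index
    rw [card_map_of_injective (f := eI.toMonoidHom) eI.injective,
      Nat.card_congr (subgroupOfEquivOfLe inf_le_left).toEquiv, hIX, card_perm5] at h
    omega
  have hK' := Equiv.Perm.eq_alternatingGroup_of_index_eq_two hK
  have hσ : eI ⟨a * s, hxI⟩ ∈ alternatingGroup (Fin 5) :=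
    hK' ▸ ⟨⟨a * s, hxI⟩, mem_subgroupOf.2 ⟨hxI, mul_mem haX hsX⟩, rfl⟩
  have ho : orderOf (eI ⟨a * s, hxI⟩) = 6 := by rw [eI.orderOf_eq, orderOf_mk, hx6]
  rcases alt_five _ (Equiv.Perm.mem_alternatingGroup.1 hσ) (ho ▸ pow_orderOf_eq_one _) with h | h <;>
    · have := Nat.le_of_dvd (by norm_num) (orderOf_dvd_of_pow_eq_one h)
      omega

end Cfsg.Agent.J4Max
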